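/-!
Functions for the checks on the rank three graph on 4060 lines: table entries, words in the five letters and the
orbit of a line under a list of maps, explored up to a bound.
-/

set_option autoImplicit false

namespace CfsgLib.RuRank3

/-- An entry of a table with twelve bits for each line. -/
def tb (T x : Nat) : Nat := (T >>> (12 * x)) &&& 4095

/-- The images of a line under a list of maps, added to a set of lines. -/
def visitAll (fs : List (Nat → Nat)) (x : Nat) (m c : Nat) (q : List Nat) : Nat × Nat × List Nat :=
  fs.foldr (fun f st =>
    let y := f x
    bif st.1.testBit y then st else (st.1 ||| 2 ^ y, st.2.1 + 1, y :: st.2.2)) (m, c, q)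

/-- The exploration of an orbit until `n` lines are found. -/
def growGo (fs : List (Nat → Nat)) (n : Nat) : Nat → Nat × Nat × List Nat → Nat × Nat
  | 0, st => (st.1, st.2.1)
  | fuel + 1, st =>
    match st.2.2 with
    | [] => (st.1, st.2.1)
    | x :: q => bif Nat.ble n st.2.1 then (st.1, st.2.1) else growGo fs n fuel (visitAll fs x st.1 st.2.1 q)

/-- The lines found and their number. -/
def grow (fs : List (Nat → Nat)) (n x : Nat) : Nat × Nat := growGo fs n 4061 (2 ^ x, 1, [x])

end CfsgLib.RuRank3
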