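import Cfsg.Agent.Lib.Golay.RuOutCount
import Cfsg.Agent.Lib.Recog.RuRank3.Defs
import Cfsg.Agent.Lib.Recog.RuRank3.Data

/-!
The stabiliser of the first line in the permutation representation of the Rudvalis group on 4060 lines, five of
its elements by tables, and the neighbourhood tables of two adjacent lines.
-/

set_option autoImplicit false
set_option maxRecDepth 100000
set_option Elab.async false

namespace CfsgLib.RuRank3

open CfsgLib.Ru MulAction Equiv

/-- A table entry of a letter, the identity outside the five letters. -/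
def lt (k x : ℕ) : ℕ :=
  bif Nat.beq k 0 then tb letT0 x else bif Nat.beq k 1 then tb letT1 x else
  bif Nat.beq k 2 then tb letT2 x else bif Nat.beq k 3 then tb letT3 x else
  bif Nat.beq k 4 then tb letT4 x else x

/-- A word in the letters, last letter first. -/
def ev (w : List ℕ) (x : ℕ) : ℕ := w.foldr lt x

/-- The check of one letter. -/
def letOK (k : ℕ) : Bool :=
  let w := letW.getD k []
  Nat.beq (applyW w 0 / 4) 0 &&
    (List.range 4060).all fun f => Nat.beq (applyW w (4 * f) / 4) (lt k f)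

theorem let_zero : letOK 0 = true := by decide +kernel
theorem let_one : letOK 1 = true := by decide +kernel
theorem let_two : letOK 2 = true := by decide +kernel
theorem let_three : letOK 3 = true := by decide +kernel
theorem let_four : letOK 4 = true := by decide +kernel

attribute [local irreducible] minV img keyOf hipX applyW sameKeys orth0 pullF tb letT0 letT1 letT2 letT3 letT4

/-- A permutation of the lines has the given table. -/
def Rep (p : Perm (Fin 4060)) (t : ℕ → ℕ) : Prop := ∀ f : Fin 4060, (p f).val = t f.val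

theorem Rep.lt_bound {p : Perm (Fin 4060)} {t : ℕ → ℕ} (h : Rep p t) {x : ℕ} (hx : x < 4060) :
    t x < 4060 := by
  have := (p ⟨x, hx⟩).isLt
  rwa [h] at this

theorem Rep.mul {p q : Perm (Fin 4060)} {t u : ℕ → ℕ} (hp : Rep p t) (hq : Rep q u) :
    Rep (p * q) fun x => t (u x) := fun f => by
  show (p (q f)).val = t (u f.val)
  rw [hp, hq]

theorem Rep.one : Rep 1 fun x => x := fun _ => rfl

theorem Rep.of_eq {p : Perm (Fin 4060)} {t u : ℕ → ℕ} (hp : Rep p t) (h : ∀ x < 4060, t x = u x) :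
    Rep p u := fun f => (hp f).trans (h _ f.isLt)

theorem Rep.ext {p q : Perm (Fin 4060)} {t u : ℕ → ℕ} (hp : Rep p t) (hq : Rep q u)
    (h : ∀ x < 4060, t x = u x) : p = q :=
  Equiv.ext fun f => Fin.ext (by rw [hp, hq]; exact h _ f.isLt)

theorem rep_word (w : List ℤ) : Rep (psi (wordE w)) fun x => applyW w (4 * x) / 4 := fun f => by
  rw [psi_apply, word_line]

/-- The stabiliser of the first line. -/
noncomputable def M0 : Subgroup (Perm (Fin 4060)) where
  carrier := {p | p ∈ H ∧ p 0 = 0}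
  one_mem' := ⟨one_mem _, rfl⟩
  mul_mem' := by
    rintro p q ⟨hp, hp0⟩ ⟨hq, hq0⟩
    exact ⟨mul_mem hp hq, show p (q 0) = 0 by rw [hq0, hp0]⟩
  inv_mem' := by
    rintro p ⟨hp, hp0⟩
    exact ⟨inv_mem hp, show p.symm 0 = 0 from p.injective (by rw [Equiv.apply_symm_apply, hp0])⟩

theorem mem_M0 {p : Perm (Fin 4060)} : p ∈ M0 ↔ p ∈ H ∧ p 0 = 0 := Iff.rfl

theorem M0_le : M0 ≤ H := fun _ h => h.1

theorem M0_fix {p : Perm (Fin 4060)} (h : p ∈ M0) : p 0 = 0 := h.2

theorem M0_eq_map : M0 = (stabilizer H (0 : Fin 4060)).map H.subtype := by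
  ext p
  rw [mem_M0, Subgroup.mem_map]
  constructor
  · rintro ⟨h1, h2⟩
    exact ⟨⟨p, h1⟩, mem_stabilizer_iff.2 h2, rfl⟩
  · rintro ⟨x, hx, rfl⟩
    exact ⟨x.2, mem_stabilizer_iff.1 hx⟩

theorem card_M0 : Nat.card M0 = 35942400 := by
  rw [M0_eq_map, Nat.card_congr (Subgroup.equivMapOfInjective _ _ H.subtype_injective).toEquiv.symm,
    card_stab]

/-- The permutation of a letter. -/
noncomputable def pl (k : ℕ) : Perm (Fin 4060) :=
  if k < 5 then psi (wordE (letW.getD k [])) else 1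

theorem letOK_all {k : ℕ} (hk : k < 5) : letOK k = true := by
  interval_cases k
  exacts [let_zero, let_one, let_two, let_three, let_four]

theorem rep_pl (k : ℕ) : Rep (pl k) (lt k) := by
  by_cases hk : k < 5
  · rw [pl, if_pos hk]
    have h := letOK_all hk
    simp only [letOK, Bool.and_eq_true, List.all_eq_true, List.mem_range] at h
    exact (rep_word _).of_eq fun x hx => Nat.eq_of_beq_eq_true (h.2 x hx)
  · rw [pl, if_neg hk]
    refine Rep.one.of_eq fun x _ => ?_
    have h5 : ∀ j < 5, Nat.beq k j = false := fun j hj => by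
      rw [Bool.eq_false_iff]; intro h; have := Nat.eq_of_beq_eq_true h; omega
    simp [lt, h5 0 (by norm_num), h5 1 (by norm_num), h5 2 (by norm_num), h5 3 (by norm_num),
      h5 4 (by norm_num)]

theorem pl_mem (k : ℕ) : pl k ∈ M0 := by
  by_cases hk : k < 5
  · have h := letOK_all hk
    simp only [letOK, Bool.and_eq_true] at h
    rw [pl, if_pos hk]
    refine ⟨⟨_, rfl⟩, Fin.ext ?_⟩
    rw [rep_word _ 0]
    exact Nat.eq_of_beq_eq_true h.1
  · rw [pl, if_neg hk]
    exact one_mem _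

/-- The permutation of a word in the letters. -/
noncomputable def pe (w : List ℕ) : Perm (Fin 4060) := (w.map pl).prod

theorem rep_pe : ∀ w : List ℕ, Rep (pe w) (ev w)
  | [] => fun f => by simp [pe, ev]
  | k :: w => fun f => by
    show ((pl k * pe w) f).val = lt k (ev w f.val)
    exact (rep_pl k).mul (rep_pe w) f

theorem pe_mem (w : List ℕ) : pe w ∈ M0 :=
  Subgroup.list_prod_mem _ fun p hp => by
    obtain ⟨k, -, rfl⟩ := List.mem_map.1 hp
    exact pl_mem k

/-- A table agrees with a word. -/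
def wordTab (T : ℕ) (w : List ℕ) : Bool := (List.range 4060).all fun f => Nat.beq (tb T f) (ev w f)

theorem rep_of_wordTab {T : ℕ} {w : List ℕ} (h : wordTab T w = true) : Rep (pe w) (tb T) :=
  (rep_pe w).of_eq fun x hx =>
    (Nat.eq_of_beq_eq_true (List.all_eq_true.1 h x (List.mem_range.2 hx))).symm

/-! ### Adjacency -/

/-- The line with number 20. -/
def F20 : Fin 4060 := ⟨20, by norm_num⟩

theorem l1_number : bIx 1 / 4 = 20 := by decide +kernel

theorem L1_eq : L1 = F20 := Fin.ext (by rw [L1_val, l1_number]; rfl)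

theorem adj_perm {p : Perm (Fin 4060)} (hp : p ∈ H) {x y : Fin 4060} : Adj (p x) (p y) ↔ Adj x y :=
  adj_smul (⟨p, hp⟩ : H)

theorem adj_comm {x y : Fin 4060} : Adj x y ↔ Adj y x := ⟨adj_symm, adj_symm⟩

theorem maskD_check : ((List.range 4060).all fun f => maskD.testBit f == orth0 f) = true := by
  decide +kernel

theorem row20_check : ((List.range 4060).all fun f => row20.testBit f == orth0 (pullF toL1W f)) = true := by
  decide +kernel

theorem adj_zero (f : Fin 4060) : Adj 0 f ↔ maskD.testBit f.val = true := by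
  rw [← L0_eq, adj_L0]
  have h := List.all_eq_true.1 maskD_check f.val (List.mem_range.2 f.isLt)
  rw [beq_iff_eq] at h
  rw [h]

theorem adj_twenty (f : Fin 4060) : Adj F20 f ↔ row20.testBit f.val = true := by
  rw [← L1_eq, adj_of_L0 word_L1]
  have h := List.all_eq_true.1 row20_check f.val (List.mem_range.2 f.isLt)
  rw [beq_iff_eq] at h
  rw [h]

theorem F20_mem : Adj 0 F20 := by
  rw [adj_zero]
  decide +kernel

theorem zero_ne_twenty : (0 : Fin 4060) ≠ F20 := by decide

theorem M0_adj {p : Perm (Fin 4060)} (hp : p ∈ M0) {x : Fin 4060} : Adj 0 (p x) ↔ Adj 0 x := by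
  conv_lhs => rw [← M0_fix hp]
  exact adj_perm hp.1

/-! ### Orbits -/

theorem visitAll_inv {O : Set ℕ} {fs : List (ℕ → ℕ)} {x : ℕ} (hx : x ∈ O)
    (hO : ∀ f ∈ fs, ∀ z ∈ O, f z ∈ O) {m c : ℕ} {q : List ℕ}
    (h : ∃ S : Finset ℕ, (↑S ⊆ O) ∧ (∀ z, m.testBit z = true ↔ z ∈ S) ∧ S.card = c ∧ ∀ z ∈ q, z ∈ S) :
    ∃ S : Finset ℕ, (↑S ⊆ O) ∧ (∀ z, (visitAll fs x m c q).1.testBit z = true ↔ z ∈ S) ∧
      S.card = (visitAll fs x m c q).2.1 ∧ ∀ z ∈ (visitAll fs x m c q).2.2, z ∈ S := by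
  induction fs with
  | nil => exact h
  | cons f fs ih =>
    obtain ⟨S, h1, h2, h3, h4⟩ := ih fun g hg => hO g (List.mem_cons_of_mem _ hg)
    simp only [visitAll, List.foldr_cons] at h2 h3 h4 ⊢
    generalize List.foldr _ _ fs = st at h2 h3 h4 ⊢
    cases hb : st.1.testBit (f x)
    · have hn : f x ∉ S := fun hm => by rw [← h2, hb] at hm; exact Bool.noConfusion hm
      refine ⟨insert (f x) S, ?_, fun z => ?_, ?_, ?_⟩
      · intro z hz
        rcases Finset.mem_insert.1 hz with rfl | hz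
        exacts [hO f List.mem_cons_self x hx, h1 hz]
      · simp only [cond_false, Nat.testBit_or, Nat.testBit_two_pow, Bool.or_eq_true, decide_eq_true_eq,
          Finset.mem_insert, h2]
        tauto
      · simp only [cond_false, Finset.card_insert_of_notMem hn, h3]
      · intro z hz
        simp only [cond_false, List.mem_cons] at hz
        rcases hz with rfl | hz
        exacts [Finset.mem_insert_self _ _, Finset.mem_insert_of_mem (h4 z hz)]
    · exact ⟨S, h1, by simpa [hb] using h2, by simpa [hb] using h3, by simpa [hb] using h4⟩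

theorem growGo_inv {O : Set ℕ} {fs : List (ℕ → ℕ)} (hO : ∀ f ∈ fs, ∀ z ∈ O, f z ∈ O) (n : ℕ) :
    ∀ (fuel : ℕ) (st : ℕ × ℕ × List ℕ),
      (∃ S : Finset ℕ, (↑S ⊆ O) ∧ (∀ z, st.1.testBit z = true ↔ z ∈ S) ∧ S.card = st.2.1 ∧
        ∀ z ∈ st.2.2, z ∈ S) →
      ∃ S : Finset ℕ, (↑S ⊆ O) ∧ (∀ z, (growGo fs n fuel st).1.testBit z = true ↔ z ∈ S) ∧
        S.card = (growGo fs n fuel st).2
  | 0, st, ⟨S, h1, h2, h3, _⟩ => ⟨S, h1, h2, h3⟩
  | fuel + 1, (m, c, []), ⟨S, h1, h2, h3, _⟩ => ⟨S, h1, h2, h3⟩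
  | fuel + 1, (m, c, x :: q), h => by
    show ∃ S : Finset ℕ, (↑S ⊆ O) ∧ (∀ z, (bif Nat.ble n c then (m, c) else
      growGo fs n fuel (visitAll fs x m c q)).1.testBit z = true ↔ z ∈ S) ∧
      S.card = (bif Nat.ble n c then (m, c) else growGo fs n fuel (visitAll fs x m c q)).2
    obtain ⟨S, h1, h2, h3, h4⟩ := h
    cases Nat.ble n c
    · exact growGo_inv hO n fuel _ (visitAll_inv (h1 (h4 x List.mem_cons_self)) hO
        ⟨S, h1, h2, h3, fun z hz => h4 z (List.mem_cons_of_mem _ hz)⟩)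
    · exact ⟨S, h1, h2, h3⟩

theorem grow_spec {O : Set ℕ} {fs : List (ℕ → ℕ)} (hO : ∀ f ∈ fs, ∀ z ∈ O, f z ∈ O) (n : ℕ) {x : ℕ}
    (hx : x ∈ O) :
    (∀ z, (grow fs n x).1.testBit z = true → z ∈ O) ∧ (O.Finite → (grow fs n x).2 ≤ O.ncard) := by
  obtain ⟨S, h1, h2, h3⟩ := growGo_inv hO n 4061 (2 ^ x, 1, [x]) ⟨{x}, by simpa using hx,
    fun z => by rw [Nat.testBit_two_pow, decide_eq_true_eq, Finset.mem_singleton, eq_comm],
    Finset.card_singleton x, fun z hz => by simpa using hz⟩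
  refine ⟨fun z hz => h1 ((h2 z).1 hz), fun hfin => ?_⟩
  unfold grow
  rw [← h3, ← Set.ncard_coe_finset]
  exact Set.ncard_le_ncard h1 hfin

/-- The exploration stays in an orbit, as a set of numbers. -/
theorem grow_orbit {K : Subgroup (Perm (Fin 4060))} {fs : List (ℕ → ℕ)}
    (hfs : ∀ f ∈ fs, ∃ p ∈ K, Rep p f) (n : ℕ) (x : Fin 4060) :
    (∀ z, (grow fs n x.val).1.testBit z = true → ∃ p ∈ K, (p x).val = z) ∧
      (grow fs n x.val).2 ≤ (orbit K x).ncard := by
  let O : Set ℕ := Fin.val '' orbit K x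
  have hO : ∀ f ∈ fs, ∀ z ∈ O, f z ∈ O := by
    rintro f hf _ ⟨y, ⟨k, rfl⟩, rfl⟩
    obtain ⟨p, hp, hr⟩ := hfs f hf
    exact ⟨(⟨p, hp⟩ * k : K) • x, ⟨_, rfl⟩, hr _⟩
  obtain ⟨h1, h2⟩ := grow_spec hO n (x := x.val) ⟨x, mem_orbit_self x, rfl⟩
  refine ⟨fun z hz => ?_, ?_⟩
  · obtain ⟨y, ⟨k, rfl⟩, rfl⟩ := h1 z hz
    exact ⟨k.1, k.2, rfl⟩
  · refine (h2 (Set.toFinite _)).trans (le_of_eq ?_)
    rw [Set.ncard_image_of_injective _ Fin.val_injective]

end CfsgLib.RuRank3
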