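import Cfsg.Agent.Lib.Chev.TitsDefs
import Cfsg.Agent.Lib.Recog.RuRank3.Basic

/-!
Kernel checks for the comparison of the five letters on 1755 vectors and on the neighbours of the first line.
-/

set_option autoImplicit false
set_option maxRecDepth 100000
set_option Elab.async false

namespace CfsgLib.RuRank3

open CfsgLib.Chev CfsgLib.Chev.Tits

/-- A vector. -/
def vec (i : ℕ) : ℕ := (vecT >>> (52 * i)) % 2 ^ 52

/-- The line of a vector. -/
def lineV (i : ℕ) : ℕ := tb lineT i

/-- The vectors increase and correspond to the neighbours of the first line. -/
def vecOK : Bool :=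
  (List.range 1754).all (fun i => Nat.blt (vec i) (vec (i + 1))) &&
  (List.range 1755).all (fun i => Nat.blt (lineV i) 4060 && Nat.beq (tb posT (lineV i)) i &&
    maskD.testBit (lineV i)) &&
  (List.range 4060).all fun f => !maskD.testBit f ||
    (Nat.blt (tb posT f) 1755 && Nat.beq (lineV (tb posT f)) f)

/-- A letter moves the vectors as its permutation moves the lines. -/
noncomputable def letVec (k : ℕ) : Bool :=
  allR (fun i => Nat.beq (mulP (letTab.getD k 0) (vec i) % 2 ^ 2704) (vec (tb posT (lt k (lineV i)))))
    (upto 1755)

/-- The word of the first generator and the square of that generator. -/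
def wordAOK : Bool :=
  (List.range 4060).all (fun f => Nat.beq (ev wordA f) (CfsgLib.Ru.applyW [0] (4 * f) / 4)) &&
  !(Nat.beq (ev wordA (ev wordA 20)) 20)

theorem vec_ok : vecOK = true := by decide +kernel
theorem wordA_ok : wordAOK = true := by decide +kernel
theorem letVec_zero : letVec 0 = true := by decide +kernel
theorem letVec_one : letVec 1 = true := by decide +kernel
theorem letVec_two : letVec 2 = true := by decide +kernel
theorem letVec_three : letVec 3 = true := by decide +kernel
theorem letVec_four : letVec 4 = true := by decide +kernel

end CfsgLib.RuRank3
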