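import Cfsg.Agent.Lib.Recog.RuRank3.RowChecks

/-!
The stored rows are rows of the graph, and a few of them separate all lines but the first two.
-/

set_option autoImplicit false
set_option maxRecDepth 100000
set_option Elab.async false

namespace CfsgLib.RuRank3

open CfsgLib.Ru MulAction Equiv

attribute [local irreducible] tb ev lt row20 maskD rowE sigS

theorem rowOK_all (i : ℕ) : rowOK i = true ∨ rowE i = (20, [], row20) := by
  rcases Nat.lt_or_ge i 89 with h | h
  · refine Or.inl ?_
    rcases Nat.lt_or_ge i 30 with h1 | h1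
    · exact List.all_eq_true.1 rows_a i (List.mem_range.2 h1)
    rcases Nat.lt_or_ge i 60 with h2 | h2
    · exact List.all_eq_true.1 rows_b i (List.mem_range'_1.2 ⟨h1, h2⟩)
    · exact List.all_eq_true.1 rows_c i (List.mem_range'_1.2 ⟨h2, h⟩)
  · refine Or.inr ?_
    unfold rowE
    exact List.getD_eq_default _ _ (by rw [rows_len]; exact h)

/-- The line of a row. -/
def rowF (i : ℕ) : Fin 4060 := ⟨(rowE i).1 % 4060, Nat.mod_lt _ (by norm_num)⟩

theorem row_word (i : ℕ) : ∃ w : List ℕ, pe w F20 = rowF i ∧ (rowF i).val = (rowE i).1 ∧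
    ∀ f : Fin 4060, Adj (rowF i) f ↔ (rowE i).2.2.testBit f.val = true := by
  rcases rowOK_all i with h | h
  · simp only [rowOK, Bool.and_eq_true, List.all_eq_true, List.mem_range, beq_iff_eq] at h
    obtain ⟨h1, h2⟩ := h
    have e1 := Nat.eq_of_beq_eq_true h1
    have hlt : (rowE i).1 < 4060 := e1 ▸ (rep_pe _).lt_bound (by norm_num)
    have hv : (rowF i).val = (rowE i).1 := Nat.mod_eq_of_lt hlt
    have hp : pe (rowE i).2.1 F20 = rowF i := Fin.ext (by rw [rep_pe, hv]; exact e1)
    refine ⟨_, hp, hv, fun f => ?_⟩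
    obtain ⟨g, rfl⟩ := (pe (rowE i).2.1).surjective f
    rw [← hp, adj_perm (pe_mem _).1, adj_twenty, rep_pe, h2 g.val g.isLt]
  · have hv : (rowF i).val = 20 := by
      show (rowE i).1 % 4060 = 20
      rw [h]
      norm_num
    refine ⟨[], ?_, by rw [hv, h], fun f => ?_⟩
    · show F20 = rowF i
      exact Fin.ext hv.symm
    · rw [show rowF i = F20 from Fin.ext hv, adj_twenty, h]

theorem adj_row (i : ℕ) (f : Fin 4060) : Adj (rowF i) f ↔ (rowE i).2.2.testBit f.val = true :=
  (row_word i).choose_spec.2.2 f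

theorem rowF_val (i : ℕ) : (rowF i).val = (rowE i).1 := (row_word i).choose_spec.2.1

theorem sep_mem {i : ℕ} (hi : i ∈ sepL) : Adj 0 (rowF i) ∧ Adj F20 (rowF i) := by
  have h := sep_ok
  simp only [sepOK, Bool.and_eq_true, List.all_eq_true] at h
  obtain ⟨h1, h2⟩ := h.2 i hi
  rw [adj_zero, adj_twenty, rowF_val]
  exact ⟨h1, h2⟩

/-- Lines with the same neighbours among the separating lines are equal, apart from the first two. -/
theorem sep_eq {x y : Fin 4060} (h : ∀ i ∈ sepL, Adj (rowF i) x ↔ Adj (rowF i) y) :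
    x = y ∨ (x = 0 ∨ x = F20) ∧ (y = 0 ∨ y = F20) := by
  have hs : sigS x.val = sigS y.val := by
    have key : ∀ l : List ℕ, (∀ i ∈ l, i ∈ sepL) →
        l.foldr (fun i s => 2 * s + bif (rowE i).2.2.testBit x.val then 1 else 0) 0 =
        l.foldr (fun i s => 2 * s + bif (rowE i).2.2.testBit y.val then 1 else 0) 0 := by
      intro l
      induction l with
      | nil => intro _; rfl
      | cons i l ih =>
        intro hl
        have e : (rowE i).2.2.testBit x.val = (rowE i).2.2.testBit y.val := by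
          rw [Bool.eq_iff_iff, ← adj_row, ← adj_row]
          exact h i (hl i List.mem_cons_self)
        simp only [List.foldr_cons, ih fun j hj => hl j (List.mem_cons_of_mem _ hj), e]
    unfold sigS
    exact key _ fun i hi => hi
  have ok := sep_ok
  simp only [sepOK, Bool.and_eq_true, List.all_eq_true, List.mem_range, Nat.blt_eq] at ok
  obtain ⟨⟨⟨⟨hmono, hpos⟩, h58⟩, h59⟩, -⟩ := ok
  have mono : ∀ j, j ≤ 4058 → ∀ i < j, sigS (tb sepT i) < sigS (tb sepT j) := by
    intro j
    induction j with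
    | zero => intro _ i hi; omega
    | succ j ih =>
      intro hj i hi
      rcases Nat.lt_succ_iff_lt_or_eq.1 hi with hlt | rfl
      · exact lt_trans (ih (by omega) i hlt) (hmono j (by omega))
      · exact hmono _ (by omega)
  obtain ⟨hxlt, hx⟩ := hpos x.val x.isLt
  obtain ⟨hylt, hy⟩ := hpos y.val y.isLt
  have hx' := Nat.eq_of_beq_eq_true hx
  have hy' := Nat.eq_of_beq_eq_true hy
  have e20 : sigS 20 = sigS 0 := by decide +kernel
  have inT : ∀ z : Fin 4060, 4058 ≤ tb sepP z.val → tb sepT (tb sepP z.val) = z.val →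
      tb sepP z.val < 4060 → z = 0 ∨ z = F20 := by
    intro z h1 h2 h3
    rcases (show tb sepP z.val = 4058 ∨ tb sepP z.val = 4059 by omega) with e | e <;> rw [e] at h2
    · exact Or.inl (Fin.ext (h2.symm.trans (Nat.eq_of_beq_eq_true h58)))
    · exact Or.inr (Fin.ext (h2.symm.trans (Nat.eq_of_beq_eq_true h59)))
  have lower : ∀ i < 4058, ∀ j < 4060, i < j → sigS (tb sepT i) ≠ sigS (tb sepT j) := by
    intro i hi j hj hij
    rcases Nat.lt_or_ge j 4059 with hj' | hj'
    · exact (mono j (by omega) i hij).ne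
    · rw [show j = 4059 by omega, Nat.eq_of_beq_eq_true h59, e20, ← Nat.eq_of_beq_eq_true h58]
      exact (mono 4058 le_rfl i hi).ne
  rcases lt_trichotomy (tb sepP x.val) (tb sepP y.val) with hlt | he | hlt
  · rcases Nat.lt_or_ge (tb sepP x.val) 4058 with h1 | h1
    · exact absurd (by rw [hx', hy']; exact hs) (lower _ h1 _ hylt hlt)
    · exact Or.inr ⟨inT x h1 hx' hxlt, inT y (by omega) hy' hylt⟩
  · exact Or.inl (Fin.ext (by rw [← hx', he, hy']))
  · rcases Nat.lt_or_ge (tb sepP y.val) 4058 with h1 | h1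
    · exact absurd (by rw [hx', hy']; exact hs.symm) (lower _ h1 _ hxlt hlt)
    · exact Or.inr ⟨inT x (by omega) hx' hxlt, inT y h1 hy' hylt⟩

/-- An element fixing the separating lines and the first two lines is trivial. -/
theorem eq_one_of_sep {p : Perm (Fin 4060)} (hp : p ∈ H) (h0 : p 0 = 0) (h20 : p F20 = F20)
    (h : ∀ i ∈ sepL, p (rowF i) = rowF i) : p = 1 := by
  refine Equiv.ext fun x => ?_
  show p x = x
  rcases sep_eq (x := p x) (y := x) fun i hi => by
    conv_lhs => rw [← h i hi]
    exact adj_perm hp with e | ⟨-, e | e⟩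
  · exact e
  · rw [e, h0]
  · rw [e, h20]

end CfsgLib.RuRank3
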