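import Cfsg.Agent.Lib.Chev.TitsInvolution
import Cfsg.Agent.Lib.Recog.RuRank3.IsoChecks
import Cfsg.Agent.Lib.Recog.RuRank3.Sep

/-!
The stabiliser of a line in the Rudvalis group is isomorphic to `²F₄(2)`: both act on 1755 points, five letters
correspond, and the action of the stabiliser on the neighbours of the line is faithful.
-/

set_option autoImplicit false
set_option maxRecDepth 100000
set_option Elab.async false

namespace CfsgLib.RuRank3

open CfsgLib.Ru CfsgLib.Chev CfsgLib.Chev.Tits MulAction Equiv Cfsg.Lie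

attribute [local irreducible] tb ev lt vec lineV row20 maskD minV img applyW Lt matP mulP evalP

theorem vec_facts : (∀ i < 1754, vec i < vec (i + 1)) ∧
    (∀ i < 1755, lineV i < 4060 ∧ tb posT (lineV i) = i ∧ maskD.testBit (lineV i) = true) ∧
    (∀ f < 4060, maskD.testBit f = true → tb posT f < 1755 ∧ lineV (tb posT f) = f) := by
  have h := vec_ok
  simp only [vecOK, Bool.and_eq_true, List.all_eq_true, List.mem_range, Nat.blt_eq, Nat.beq_eq,
    Bool.or_eq_true, Bool.not_eq_true'] at h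
  obtain ⟨⟨h1, h2⟩, h3⟩ := h
  exact ⟨h1, fun i hi => ⟨(h2 i hi).1.1, (h2 i hi).1.2, (h2 i hi).2⟩,
    fun f hf hb => (h3 f hf).resolve_left (by simp [hb])⟩

theorem vec_lt (i : ℕ) : vec i < 2 ^ 52 := by
  unfold vec
  exact Nat.mod_lt _ (by norm_num)

theorem vec_inj {i j : ℕ} (hi : i < 1755) (hj : j < 1755) (h : vec i = vec j) : i = j := by
  have mono : ∀ b, b < 1755 → ∀ a < b, vec a < vec b := by
    intro b
    induction b with
    | zero => intro _ a ha; omega
    | succ b ih =>
      intro hb a ha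
      rcases Nat.lt_succ_iff_lt_or_eq.1 ha with hlt | rfl
      · exact lt_trans (ih (by omega) a hlt) (vec_facts.1 b (by omega))
      · exact vec_facts.1 _ (by omega)
  rcases lt_trichotomy i j with hlt | he | hlt
  · exact absurd h (mono j hj i hlt).ne
  · exact he
  · exact absurd h.symm (mono i hi j hlt).ne

/-- The vector as a matrix with one column. -/
noncomputable def vm (i : ℕ) : Matrix chevF4.Idx chevF4.Idx (ZMod 2) := matP (vec i)

theorem vm_inj {i j : ℕ} (hi : i < 1755) (hj : j < 1755) (h : vm i = vm j) : i = j := by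
  refine vec_inj hi hj (Classical.byContradiction fun hne => matP_ne ?_ h)
  rw [neP, Bool.not_eq_true', Bool.eq_false_iff]
  intro hb
  have hb' := Nat.eq_of_beq_eq_true hb
  rw [Nat.mod_eq_of_lt (lt_of_lt_of_le (Nat.xor_lt_two_pow (vec_lt i) (vec_lt j)) (by
    exact Nat.pow_le_pow_right (by norm_num) (by norm_num)))] at hb'
  exact hne (Nat.xor_eq_zero_iff.1 hb')

/-- A matrix and a permutation act alike. -/
def Agree (g : GL chevF4.Idx (ZMod 2)) (p : Perm (Fin 4060)) : Prop :=
  ∀ i < 1755, ∀ f : Fin 4060, f.val = lineV i →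
    (g : Matrix chevF4.Idx chevF4.Idx (ZMod 2)) * vm i = vm (tb posT (p f).val)

theorem pos_M0 {p : Perm (Fin 4060)} (hp : p ∈ M0) {i : ℕ} (hi : i < 1755) {f : Fin 4060}
    (hf : f.val = lineV i) : tb posT (p f).val < 1755 ∧ lineV (tb posT (p f).val) = (p f).val :=
  vec_facts.2.2 _ (p f).isLt (by rw [← adj_zero, M0_adj hp, adj_zero, hf]; exact (vec_facts.2.1 i hi).2.2)

theorem agree_mul {g h : GL chevF4.Idx (ZMod 2)} {p q : Perm (Fin 4060)} (hq : q ∈ M0)
    (hg : Agree g p) (hh : Agree h q) : Agree (g * h) (p * q) := by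
  intro i hi f hf
  rw [Units.val_mul, Matrix.mul_assoc, hh i hi f hf]
  exact hg _ (pos_M0 hq hi hf).1 (q f) (pos_M0 hq hi hf).2.symm

theorem agree_one : Agree 1 1 := by
  intro i hi f hf
  rw [Units.val_one, Matrix.one_mul]
  show vm i = vm (tb posT f.val)
  rw [hf, (vec_facts.2.1 i hi).2.1]

theorem agree_inv {g : GL chevF4.Idx (ZMod 2)} {p : Perm (Fin 4060)} (hp : p ∈ M0) (hg : Agree g p) :
    Agree g⁻¹ p⁻¹ := by
  intro i hi f hf
  obtain ⟨h1, h2⟩ := pos_M0 (inv_mem hp) hi hf
  have h := hg _ h1 (p⁻¹ f) h2.symm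
  rw [Equiv.Perm.coe_inv, Equiv.apply_symm_apply, hf, (vec_facts.2.1 i hi).2.1] at h
  rw [Equiv.Perm.coe_inv, ← h, ← Matrix.mul_assoc, ← Units.val_mul, inv_mul_cancel, Units.val_one,
    Matrix.one_mul]

theorem agree_unique {g : GL chevF4.Idx (ZMod 2)} {p q : Perm (Fin 4060)} (hp : p ∈ M0) (hq : q ∈ M0)
    (h1 : Agree g p) (h2 : Agree g q) : p = q := by
  have hD : ∀ f : Fin 4060, Adj 0 f → p f = q f := by
    intro f hf
    rw [adj_zero] at hf
    obtain ⟨hi, hl⟩ := vec_facts.2.2 f.val f.isLt hf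
    have e : vm (tb posT (p f).val) = vm (tb posT (q f).val) :=
      (h1 _ hi f hl.symm).symm.trans (h2 _ hi f hl.symm)
    have hpp := pos_M0 hp hi hl.symm
    have hqq := pos_M0 hq hi hl.symm
    refine Fin.ext ?_
    rw [← hpp.2, ← hqq.2, vm_inj hpp.1 hqq.1 e]
  have hone : q⁻¹ * p = 1 := by
    have hmem : q⁻¹ * p ∈ M0 := mul_mem (inv_mem hq) hp
    have hfix : ∀ f : Fin 4060, Adj 0 f → (q⁻¹ * p) f = f := fun f hf => by
      show q.symm (p f) = f
      rw [hD f hf, Equiv.symm_apply_apply]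
    exact eq_one_of_sep hmem.1 hmem.2 (hfix _ F20_mem) fun i hi => hfix _ (sep_mem hi).1
  exact (inv_mul_eq_one.1 hone).symm

theorem agree_letter {k : ℕ} (hk : k < 5) : Agree (Lt k) (pl k) := by
  intro i hi f hf
  have hl : letVec k = true := by
    interval_cases k
    exacts [letVec_zero, letVec_one, letVec_two, letVec_three, letVec_four]
  have h := Nat.eq_of_beq_eq_true (allR_upto hl hi)
  rw [letters.1 k hk, vm, ← matP_mulP, ← matP_mod (mulP _ _), h, rep_pl k f, hf]
  rfl

/-- The matrices with an agreeing permutation in the stabiliser. -/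
noncomputable def AG : Subgroup (GL chevF4.Idx (ZMod 2)) where
  carrier := {g | ∃ p ∈ M0, Agree g p}
  one_mem' := ⟨1, one_mem _, agree_one⟩
  mul_mem' := by
    rintro g h ⟨p, hp, hg⟩ ⟨q, hq, hh⟩
    exact ⟨p * q, mul_mem hp hq, agree_mul hq hg hh⟩
  inv_mem' := by
    rintro g ⟨p, hp, hg⟩
    exact ⟨p⁻¹, inv_mem hp, agree_inv hp hg⟩

theorem G2F4_le_AG : G2F4 ≤ AG := by
  have hgen : G2F4 = Subgroup.closure {x | ∃ w ∈ f4Words (ZMod 2) 1,
      x = (w.map fun p => goodF4.xG p.1 p.2).prod} := twistedF4_eq (ZMod 2) 1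
  rw [hgen, Subgroup.closure_le]
  intro y hy
  obtain ⟨v, hv, rfl⟩ := gen_cases y hy
  rw [gW]
  refine Subgroup.list_prod_mem _ fun y hy => ?_
  obtain ⟨k, hk, rfl⟩ := List.mem_map.1 hy
  exact ⟨pl k, pl_mem k, agree_letter (by have := hv k hk; omega)⟩

/-- The homomorphism to the stabiliser. -/
noncomputable def toM0 : ↥G2F4 →* ↥M0 :=
  MonoidHom.mk' (fun g => ⟨(G2F4_le_AG g.2).choose, (G2F4_le_AG g.2).choose_spec.1⟩) fun g h =>
    Subtype.ext (agree_unique (G2F4_le_AG (g * h).2).choose_spec.1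
      (mul_mem (G2F4_le_AG g.2).choose_spec.1 (G2F4_le_AG h.2).choose_spec.1)
      (G2F4_le_AG (g * h).2).choose_spec.2
      (agree_mul (G2F4_le_AG h.2).choose_spec.1 (G2F4_le_AG g.2).choose_spec.2
        (G2F4_le_AG h.2).choose_spec.2))

theorem toM0_agree {g : ↥G2F4} {p : Perm (Fin 4060)} (hp : p ∈ M0) (h : Agree g p) :
    (toM0 g : Perm (Fin 4060)) = p :=
  agree_unique (toM0 g).2 hp (G2F4_le_AG g.2).choose_spec.2 h

theorem agree_word : ∀ w : List ℕ, (∀ k ∈ w, k < 5) → Agree (gW w) (pe w)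
  | [], _ => by simpa [gW, pe] using agree_one
  | k :: w, hw => by
    have h := agree_mul (pe_mem w) (agree_letter (hw k List.mem_cons_self))
      (agree_word w fun x hx => hw x (List.mem_cons_of_mem _ hx))
    simpa [gW, pe] using h

theorem toM0_word (w : List ℕ) (hw : ∀ k ∈ w, k < 5) (hmem : gW w ∈ G2F4) :
    (toM0 ⟨gW w, hmem⟩ : Perm (Fin 4060)) = pe w :=
  toM0_agree (g := ⟨gW w, hmem⟩) (pe_mem w) (agree_word w hw)

theorem wordA_lt : ∀ k ∈ wordA, k < 5 := by decide +kernel

attribute [local irreducible] gW pe Agree wordA toM0 commutator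

theorem ker_inter_of_simple {G M : Type*} [Group G] [Group M] (φ : G →* M)
    {N : Subgroup G} (hs : IsSimpleGroup N) {a : G} (ha : a ∈ N) (hφ : φ a ≠ 1) :
    ∀ x ∈ φ.ker, x ∈ N → x = 1 := by
  intro x hx hN
  rcases Subgroup.Normal.eq_bot_or_eq_top (H := (φ.comp N.subtype).ker) inferInstance with h | h
  · have hm : (⟨x, hN⟩ : N) ∈ (φ.comp N.subtype).ker := hx
    rw [h, Subgroup.mem_bot] at hm
    exact congrArg Subtype.val hm
  · exfalso
    have hm : (⟨a, ha⟩ : N) ∈ (φ.comp N.subtype).ker := by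
      rw [h]; exact Subgroup.mem_top _
    exact hφ hm

theorem toM0_injective : Function.Injective toM0 := by
  have hmem : gW wordA ∈ G2F4 := by
    rw [gW]
    refine Subgroup.list_prod_mem _ fun y hy => ?_
    obtain ⟨x, hx, rfl⟩ := List.mem_map.1 hy
    exact Lt_mem x (wordA_lt x hx)
  have hw := toM0_word wordA wordA_lt hmem
  generalize (⟨gW wordA, hmem⟩ : ↥G2F4) = a at hw
  have ha : (toM0 (a ^ 2) : Perm (Fin 4060)) = pe wordA * pe wordA := by
    rw [sq, map_mul, Subgroup.coe_mul, hw]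
  have ha2 : toM0 (a ^ 2) ≠ 1 := by
    intro he
    have h20 : (pe wordA * pe wordA) F20 = F20 := by rw [← ha, he]; rfl
    have hv := congrArg Fin.val h20
    rw [(rep_pe wordA).mul (rep_pe wordA)] at hv
    have h := wordA_ok
    simp only [wordAOK, Bool.and_eq_true, Bool.not_eq_true', Bool.eq_false_iff] at h
    exact h.2 (by rw [show ev wordA (ev wordA 20) = 20 from hv]; exact Nat.beq_refl 20)
  have hinter : ∀ x ∈ toM0.ker, x ∈ commutator ↥G2F4 → x = 1 :=
    ker_inter_of_simple toM0 simple.1 (Subgroup.sq_mem_of_index_two index_commutator a) ha2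
  refine (injective_iff_map_eq_one _).2 fun g hg => hinter g hg (involution_mem_commutator g ?_)
  exact hinter _ (MonoidHom.mem_ker.2 (by rw [map_mul, hg, one_mul]))
    (by rw [← sq]; exact Subgroup.sq_mem_of_index_two index_commutator g)

/-- The point stabiliser is the large Ree group over the field of two elements. -/
noncomputable def treeIso : ↥G2F4 ≃* ↥M0 :=
  MulEquiv.ofBijective toM0 ((Nat.bijective_iff_injective_and_card toM0).2
    ⟨toM0_injective, by rw [card_group, card_M0]⟩)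

end CfsgLib.RuRank3
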