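import Cfsg.Agent.Lib.Recog.RuRank3.Row

/-!
A permutation of the lines preserving the edges at the common neighbours of two adjacent lines, and fixing the two
lines and their neighbourhoods, lies in the stabiliser of the two lines.
-/

set_option autoImplicit false
set_option maxRecDepth 100000
set_option Elab.async false

namespace CfsgLib.RuRank3

open CfsgLib.Ru MulAction Equiv

attribute [local irreducible] tb ev lt maskD row20 grow kls klsR klsN rowE colA colB cntL sepL setsA setsB

/-- The common neighbours. -/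
def CN (f : Fin 4060) : Prop := Adj 0 f ∧ Adj F20 f

theorem CN_iff (f : Fin 4060) : CN f ↔ inC f.val = true := by
  unfold CN inC
  rw [Bool.and_eq_true, adj_zero, adj_twenty]

/-- The hypotheses. -/
structure Good (s : Perm (Fin 4060)) : Prop where
  zero : s 0 = 0
  twenty : s F20 = F20
  near : ∀ f, Adj 0 (s f) ↔ Adj 0 f
  nearT : ∀ f, Adj F20 (s f) ↔ Adj F20 f
  edge : ∀ u, CN u → ∀ f, Adj (s u) (s f) ↔ Adj u f

theorem P_adjT {p : Perm (Fin 4060)} (hp : p ∈ P) {x : Fin 4060} : Adj F20 (p x) ↔ Adj F20 x := by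
  conv_lhs => rw [← hp.2]
  exact adj_perm hp.1.1

theorem Good.mul {s p : Perm (Fin 4060)} (hp : p ∈ P) (hs : Good s) : Good (p * s) where
  zero := show p (s 0) = 0 by rw [hs.zero, M0_fix hp.1]
  twenty := show p (s F20) = F20 by rw [hs.twenty, hp.2]
  near f := (M0_adj hp.1).trans (hs.near f)
  nearT f := (P_adjT hp).trans (hs.nearT f)
  edge u hu f := (adj_perm hp.1.1).trans (hs.edge u hu f)

theorem Good.cn {s : Perm (Fin 4060)} (hs : Good s) (f : Fin 4060) : CN (s f) ↔ CN f :=
  and_congr (hs.near f) (hs.nearT f)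

/-! ### The classes are preserved -/

/-- The number of common neighbours. -/
noncomputable def deg3 (f : Fin 4060) : ℕ := {v : Fin 4060 | CN v ∧ Adj v f}.ncard

theorem Good.deg {s : Perm (Fin 4060)} (hs : Good s) (f : Fin 4060) : deg3 (s f) = deg3 f := by
  have e : {v : Fin 4060 | CN v ∧ Adj v (s f)} = (fun v => s v) '' {v : Fin 4060 | CN v ∧ Adj v f} := by
    ext v
    constructor
    · rintro ⟨h1, h2⟩
      rw [← Equiv.apply_symm_apply s v, hs.cn] at h1
      rw [← Equiv.apply_symm_apply s v, hs.edge _ h1] at h2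
      exact ⟨_, ⟨h1, h2⟩, Equiv.apply_symm_apply s v⟩
    · rintro ⟨w, ⟨h1, h2⟩, rfl⟩
      exact ⟨(hs.cn w).2 h1, (hs.edge w h1 f).2 h2⟩
  unfold deg3
  rw [e, Set.ncard_image_of_injective _ s.injective]

theorem deg_row (i : ℕ) : deg3 (rowF i) = degR i := by
  unfold deg3 degR
  rw [← ncard_cond]
  congr 1
  ext v
  show CN v ∧ Adj v (rowF i) ↔ (inC v.val && (rowE i).2.2.testBit v.val) = true
  rw [Bool.and_eq_true, CN_iff, adj_comm, adj_row]

theorem deg_P {p : Perm (Fin 4060)} (hp : p ∈ P) (f : Fin 4060) : deg3 (p f) = deg3 f :=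
  Good.deg (s := p) ⟨M0_fix hp.1, hp.2, fun _ => M0_adj hp.1, fun _ => P_adjT hp,
    fun _ _ _ => adj_perm hp.1.1⟩ f

theorem kls_inC {f : ℕ} (h : inC f = true) (h0 : f ≠ 0) (h20 : f ≠ 20) :
    kls f = 1 ∨ kls f = 2 ∨ kls f = 3 := by
  simp only [inC, Bool.and_eq_true] at h
  unfold kls
  rw [show Nat.beq f 0 = false from Bool.eq_false_iff.2 fun e => h0 (Nat.eq_of_beq_eq_true e),
    show Nat.beq f 20 = false from Bool.eq_false_iff.2 fun e => h20 (Nat.eq_of_beq_eq_true e),
    h.1, h.2]
  simp only [cond_eq_ite]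
  split_ifs <;> simp_all

theorem CN_ne {f : Fin 4060} (h : CN f) : f.val ≠ 0 ∧ f.val ≠ 20 := by
  constructor <;> intro e
  · exact not_adj_self 0 (by
      conv_lhs => rw [show (0 : Fin 4060) = f from Fin.ext e.symm]
      rw [show f = 0 from Fin.ext e] at h ⊢
      exact h.1)
  · rw [show f = F20 from Fin.ext e] at h
    exact not_adj_self _ h.2

theorem Good.kls {s : Perm (Fin 4060)} (hs : Good s) {f : Fin 4060} (hf : CN f) :
    CfsgLib.RuRank3.kls (s f).val = CfsgLib.RuRank3.kls f.val := by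
  have val : ∀ g : Fin 4060, CN g → ∃ i : ℕ, i < 3 ∧ CfsgLib.RuRank3.kls g.val = i + 1 ∧
      deg3 g = degR i := by
    intro g hg
    obtain ⟨p, hp, e⟩ := kls_reach g
    rcases kls_inC ((CN_iff g).1 hg) (CN_ne hg).1 (CN_ne hg).2 with h | h | h
    all_goals
      refine ⟨CfsgLib.RuRank3.kls g.val - 1, by omega, by omega, ?_⟩
      rw [← deg_row, ← e, deg_P hp]
      congr 1
      refine Fin.ext ?_
      show klsR (klsK g).val = _
      rw [rowF_val, show (klsK g).val = CfsgLib.RuRank3.kls g.val from rfl, e, h]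
      unfold klsR
      rfl
  obtain ⟨i, hi, hk, hd⟩ := val _ hf
  obtain ⟨j, hj, hk', hd'⟩ := val _ ((hs.cn f).2 hf)
  rw [hs.deg, hd] at hd'
  obtain ⟨d1, d2, d3⟩ := deg_ok
  interval_cases i <;> interval_cases j <;>
    first
      | omega
      | exact absurd hd' d1
      | exact absurd hd' d2
      | exact absurd hd' d3
      | exact absurd hd'.symm d1
      | exact absurd hd'.symm d2
      | exact absurd hd'.symm d3

/-! ### Refinement -/

theorem colAfter_snoc (c : ℕ → ℕ) (done : List (List ℕ)) (l : List ℕ) (f : ℕ) :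
    colAfter c (done ++ [l]) f = colAfter c done f * 128 + cntL l f := by
  simp [colAfter, List.foldl_append]

theorem distinctN_nodup : ∀ {l : List ℕ}, setOK.distinctN l = true → l.Nodup
  | [], _ => List.nodup_nil
  | x :: xs, h => by
    simp only [setOK.distinctN, Bool.and_eq_true, Bool.not_eq_true', List.any_eq_false] at h
    exact List.nodup_cons.2 ⟨fun hx => h.1 x hx (Nat.beq_refl x), distinctN_nodup h.2⟩

theorem setOK_inv {c : ℕ → ℕ} {done : List (List ℕ)} {l : List ℕ} (hl : setOK c done l = true)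
    {s : Perm (Fin 4060)} (hs : Good s)
    (hc : ∀ f, CN f → colAfter c done (s f).val = colAfter c done f.val) {f : Fin 4060} :
    cntL l (s f).val = cntL l f.val := by
  classical
  simp only [setOK, Bool.and_eq_true, List.all_eq_true, List.mem_range, Bool.or_eq_true,
    Bool.not_eq_true', beq_iff_eq] at hl
  obtain ⟨⟨hd, hin⟩, hcls⟩ := hl
  generalize colAfter c done (rowE (l.headD 0)).1 = t at hcls
  have hnd : (l.map fun i => (rowE i).1).Nodup := distinctN_nodup hd
  let S : Set (Fin 4060) := {u | CN u ∧ colAfter c done u.val = t}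
  have hS : ∀ u : Fin 4060, u ∈ S ↔ ∃ i ∈ l, (rowE i).1 = u.val := by
    intro u
    constructor
    · rintro ⟨h1, h2⟩
      rcases hcls u.val u.isLt with h | h
      · rw [(CN_iff u).1 h1] at h; exact Bool.noConfusion h
      · rw [h2, Nat.beq_refl, eq_comm, List.any_eq_true] at h
        obtain ⟨x, hx, e⟩ := h
        obtain ⟨i, hi, rfl⟩ := List.mem_map.1 hx
        exact ⟨i, hi, (Nat.eq_of_beq_eq_true e).symm⟩
    · rintro ⟨i, hi, e⟩
      have hu : CN u := (CN_iff u).2 (e ▸ hin i hi)
      refine ⟨hu, ?_⟩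
      rcases hcls u.val u.isLt with h | h
      · rw [(CN_iff u).1 hu] at h; exact Bool.noConfusion h
      · rw [show ((l.map fun i => (rowE i).1).any (Nat.beq u.val)) = true from
          List.any_eq_true.2 ⟨_, List.mem_map.2 ⟨i, hi, e⟩, Nat.beq_refl _⟩] at h
        exact Nat.eq_of_beq_eq_true h
  have count : ∀ g : Fin 4060, cntL l g.val = {u : Fin 4060 | u ∈ S ∧ Adj u g}.ncard := by
    intro g
    have hnd' : l.Nodup := hnd.of_map _
    have e : {u : Fin 4060 | u ∈ S ∧ Adj u g} =
        rowF '' ↑(l.filter fun i => (rowE i).2.2.testBit g.val).toFinset := by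
      ext u
      simp only [Set.mem_setOf_eq, Set.mem_image, List.coe_toFinset, List.mem_filter]
      constructor
      · rintro ⟨h1, h2⟩
        obtain ⟨i, hi, e⟩ := (hS u).1 h1
        have hu : rowF i = u := Fin.ext (by rw [rowF_val]; exact e)
        refine ⟨i, ⟨hi, ?_⟩, hu⟩
        rw [← adj_row, hu]
        exact h2
      · rintro ⟨i, ⟨hi, hb⟩, rfl⟩
        exact ⟨(hS _).2 ⟨i, hi, (rowF_val i).symm⟩, (adj_row i g).2 hb⟩
    rw [e, Set.InjOn.ncard_image, Set.ncard_coe_finset,
      List.toFinset_card_of_nodup (hnd'.filter _)]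
    · unfold cntL
      exact List.countP_eq_length_filter
    · intro i hi j hj he
      simp only [List.coe_toFinset, List.mem_filter, Set.mem_setOf_eq] at hi hj
      exact List.inj_on_of_nodup_map hnd hi.1 hj.1 (by
        rw [← rowF_val, ← rowF_val, he])
  rw [count, count]
  have e : {u : Fin 4060 | u ∈ S ∧ Adj u (s f)} = (fun u => s u) '' {u : Fin 4060 | u ∈ S ∧ Adj u f} := by
    ext v
    constructor
    · rintro ⟨⟨h1, h2⟩, h3⟩
      rw [← Equiv.apply_symm_apply s v, hs.cn] at h1
      rw [← Equiv.apply_symm_apply s v, hc _ h1] at h2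
      rw [← Equiv.apply_symm_apply s v, hs.edge _ h1] at h3
      exact ⟨_, ⟨⟨h1, h2⟩, h3⟩, Equiv.apply_symm_apply s v⟩
    · rintro ⟨w, ⟨⟨h1, h2⟩, h3⟩, rfl⟩
      exact ⟨⟨(hs.cn w).2 h1, (hc w h1).trans h2⟩, (hs.edge w h1 f).2 h3⟩
  rw [e, Set.ncard_image_of_injective _ s.injective]

theorem stage_inv {c : ℕ → ℕ} {sets : List (List ℕ)} (hok : stageOK c sets = true)
    {s : Perm (Fin 4060)} (hs : Good s) (hc : ∀ f, CN f → c (s f).val = c f.val) :
    ∀ f, CN f → colAfter c sets (s f).val = colAfter c sets f.val := by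
  suffices h : ∀ j, j ≤ sets.length → ∀ f : Fin 4060, CN f →
      colAfter c (sets.take j) (s f).val = colAfter c (sets.take j) f.val by
    simpa using h sets.length le_rfl
  intro j
  induction j with
  | zero => intro _ f hf; simpa [colAfter] using hc f hf
  | succ j ih =>
    intro hj f hf
    have hok' := List.all_eq_true.1 hok j (List.mem_range.2 (by omega))
    rw [List.getD_eq_getElem _ _ (by omega)] at hok'
    rw [← List.take_concat_get' sets j (by omega), colAfter_snoc, colAfter_snoc,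
      ih (by omega) f hf, setOK_inv hok' hs (ih (by omega))]

/-- The first base line. -/
def FX : Fin 4060 := ⟨baseX, by decide⟩

/-- The second base line. -/
def FY : Fin 4060 := ⟨baseY, by decide⟩

theorem orbit_facts : CN FY ∧ rowF baseXI = FX ∧
    (∀ w ∈ stabW, pe w ∈ P ∧ pe w FX = FX) ∧
    ∀ f : Fin 4060, CN f → colA f.val = colA baseY → ∃ p ∈ P, p FX = FX ∧ p FY = f := by
  have h := orbit_ok
  simp only [orbitOK, Bool.and_eq_true, List.all_eq_true, List.mem_range, Bool.or_eq_true,
    Bool.not_eq_true', Nat.beq_eq] at h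
  obtain ⟨⟨⟨h1, h2⟩, h3⟩, h4⟩ := h
  have hw : ∀ w ∈ stabW, pe w ∈ P ∧ pe w FX = FX := fun w hw =>
    ⟨⟨pe_mem w, Fin.ext (by rw [rep_pe]; exact (h3 w hw).1)⟩, Fin.ext (by rw [rep_pe]; exact (h3 w hw).2)⟩
  refine ⟨(CN_iff FY).2 h1, Fin.ext (by rw [rowF_val]; exact h2), hw, fun f hf hc => ?_⟩
  rcases h4 f.val f.isLt with (h | h) | h
  · rw [(CN_iff f).1 hf] at h; exact Bool.noConfusion h
  · rw [hc, Nat.beq_refl] at h; exact Bool.noConfusion h
  · let P1 : Subgroup (Perm (Fin 4060)) :=
      { carrier := {p | p ∈ P ∧ p FX = FX}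
        one_mem' := ⟨one_mem _, rfl⟩
        mul_mem' := by
          rintro p q ⟨hp, hp'⟩ ⟨hq, hq'⟩
          exact ⟨mul_mem hp hq, show p (q FX) = FX by rw [hq', hp']⟩
        inv_mem' := by
          rintro p ⟨hp, hp'⟩
          exact ⟨inv_mem hp, show p.symm FX = FX from p.injective (by rw [Equiv.apply_symm_apply, hp'])⟩ }
    have hgen : ∀ t ∈ stabW.map (fun w => ev w), ∃ p ∈ P1, Rep p t := by
      intro t ht
      obtain ⟨w, hw', rfl⟩ := List.mem_map.1 ht
      exact ⟨pe w, hw w hw', rep_pe w⟩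
    obtain ⟨p, hp, e⟩ := (grow_orbit hgen 21 FY).1 f.val h
    exact ⟨p, hp.1, hp.2, Fin.ext e⟩

/-- Rigidity. -/
theorem rigid {s : Perm (Fin 4060)} (hs : Good s) : s ∈ P := by
  obtain ⟨hY, hrX, -, hreach⟩ := orbit_facts
  -- move the first base line back
  have h4 : kls baseX = 4 := by
    have h := (kls_spec (show 4 < 8 by norm_num)).1
    simpa [klsR] using h
  have hX : Adj 0 FX ∧ ¬ Adj F20 FX ∧ FX ≠ F20 := by
    have h : (maskD.testBit baseX && !row20.testBit baseX && !(Nat.beq baseX 20)) = true := by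
      decide +kernel
    simp only [Bool.and_eq_true, Bool.not_eq_true', Bool.eq_false_iff, Nat.beq_eq] at h
    exact ⟨(adj_zero FX).2 h.1.1, fun e => h.1.2 ((adj_twenty FX).1 e), fun e => h.2 (show Nat.beq baseX 20 = true by rw [show baseX = 20 from congrArg Fin.val e]; exact Nat.beq_refl 20)⟩
  have h4' : kls (s FX).val = kls FX.val := by
    show _ = kls baseX
    rw [h4]
    unfold kls
    have hne0 : (s FX).val ≠ 0 := fun e => not_adj_self 0 (by
      have h := (hs.near FX).2 hX.1
      rwa [show s FX = 0 from Fin.ext e] at h)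
    have hne20 : (s FX).val ≠ 20 := fun e => hX.2.2 (s.injective (by rw [hs.twenty]; exact Fin.ext e))
    rw [show Nat.beq (s FX).val 0 = false from Bool.eq_false_iff.2 fun e => hne0 (Nat.eq_of_beq_eq_true e),
      show Nat.beq (s FX).val 20 = false from Bool.eq_false_iff.2 fun e => hne20 (Nat.eq_of_beq_eq_true e),
      (adj_zero _).1 ((hs.near FX).2 hX.1),
      Bool.eq_false_iff.2 fun e => hX.2.1 ((hs.nearT FX).1 ((adj_twenty _).2 e))]
    rfl
  obtain ⟨p, hp, ep⟩ := kls_same h4'
  have hs1 := hs.mul hp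
  have hfx : (p * s) FX = FX := ep
  -- the colours of the first stage
  have colA_inv : ∀ t, Good t → t FX = FX → ∀ f, CN f → colA (t f).val = colA f.val := by
    intro t ht htx f hf
    unfold colA
    refine stage_inv stageA_ok ht (fun g hg => ?_) f hf
    unfold col0
    rw [ht.kls hg, show (rowE baseXI).2.2.testBit (t g).val = (rowE baseXI).2.2.testBit g.val from ?_]
    rw [Bool.eq_iff_iff, ← adj_row, ← adj_row, hrX]
    conv_lhs => rw [← htx, adj_comm, ht.edge g hg, adj_comm]
  obtain ⟨q, hq, hqx, hqy⟩ := hreach ((p * s) FY) ((hs1.cn FY).2 hY) (colA_inv _ hs1 hfx FY hY)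
  have hs2 := hs1.mul (inv_mem hq)
  have hfx2 : (q⁻¹ * (p * s)) FX = FX := by
    show q.symm ((p * s) FX) = FX
    rw [hfx, Equiv.symm_apply_eq, hqx]
  have hfy2 : (q⁻¹ * (p * s)) FY = FY := by
    show q.symm ((p * s) FY) = FY
    rw [Equiv.symm_apply_eq, hqy]
  generalize ht : q⁻¹ * (p * s) = t at hs2 hfx2 hfy2
  have colB_inv : ∀ f, CN f → colB (t f).val = colB f.val := by
    intro f hf
    unfold colB
    refine stage_inv stageB_ok hs2 (fun g hg => ?_) f hf
    unfold colB0
    rw [colA_inv t hs2 hfx2 g hg, show Nat.beq (t g).val baseY = Nat.beq g.val baseY from ?_]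
    rw [Bool.eq_iff_iff, Nat.beq_eq, Nat.beq_eq]
    constructor
    · intro e
      have : t g = t FY := by rw [hfy2]; exact Fin.ext e
      rw [t.injective this]; rfl
    · intro e
      rw [show g = FY from Fin.ext e, hfy2]; rfl
  have hsep : ∀ i ∈ sepL, t (rowF i) = rowF i := by
    intro i hi
    have hu : CN (rowF i) := sep_mem hi
    have h := List.all_eq_true.1 final_ok (t (rowF i)).val (List.mem_range.2 (Fin.isLt _))
    simp only [Bool.or_eq_true, Bool.not_eq_true', List.all_eq_true] at h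
    rcases h with h | h
    · rw [(CN_iff _).1 ((hs2.cn _).2 hu)] at h; exact Bool.noConfusion h
    rcases h i hi with h | h
    · rw [colB_inv _ hu, rowF_val, Nat.beq_refl] at h; exact Bool.noConfusion h
    · exact Fin.ext ((Nat.eq_of_beq_eq_true h).symm.trans (rowF_val i).symm)
  have ht1 : t = 1 := by
    refine Equiv.ext fun x => ?_
    show t x = x
    rcases sep_eq (x := t x) (y := x) fun i hi => by
      conv_lhs => rw [← hsep i hi]
      exact hs2.edge _ (sep_mem hi) x with e | ⟨-, e | e⟩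
    · exact e
    · rw [e, hs2.zero]
    · rw [e, hs2.twenty]
  have e : s = p⁻¹ * q := by
    have h : q⁻¹ * (p * s) = 1 := ht.trans ht1
    rw [inv_mul_eq_one] at h
    rw [h, inv_mul_cancel_left]
  rw [e]
  exact mul_mem (inv_mem hp) hq

end CfsgLib.RuRank3
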