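import Cfsg.Agent.Lib.Recog.RuRank3.Iso

/-!
A subgroup of order 20480 of the stabiliser of a line fixes one of its 1755 neighbours: a Sylow 2-subgroup has
only three neighbours in orbits of at most five elements.
-/

set_option autoImplicit false
set_option maxRecDepth 100000
set_option Elab.async false

namespace CfsgLib.RuRank3

open CfsgLib.Ru CfsgLib.Chev.Tits MulAction Equiv Cfsg.Lie

/-- The three neighbours in small orbits. -/
def small3 : List ℕ := [20, 471, 837]

/-- The other neighbours lie in orbits of at least six elements. -/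
def sylOK : Bool :=
  (List.range 4060).all fun f => !maskD.testBit f || small3.any (Nat.beq f) ||
    Nat.ble 6 (grow [lt 0, lt 2, lt 4] 6 f).2

theorem syl_ok : sylOK = true := by decide +kernel

attribute [local irreducible] tb ev lt maskD grow toM0

/-- The image of the Sylow subgroup. -/
noncomputable def S0 : Subgroup (Perm (Fin 4060)) :=
  (((chain 0).subgroupOf G2F4).map toM0).map M0.subtype

theorem card_S0 : Nat.card S0 = 2 ^ 12 := by
  rw [S0, ← Nat.card_congr (Subgroup.equivMapOfInjective _ _ M0.subtype_injective).toEquiv,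
    ← Nat.card_congr (Subgroup.equivMapOfInjective _ _ toM0_injective).toEquiv,
    Nat.card_congr (Subgroup.subgroupOfEquivOfLe (chain_le_G2F4 0)).toEquiv, (chain_spec 12 0 rfl).1]
where
  chain_le_G2F4 (k : ℕ) : chain k ≤ G2F4 := by
    rw [chain, Subgroup.closure_le]
    rintro x ⟨j, -, rfl⟩
    exact (pW_mem j).2

theorem S0_le : S0 ≤ M0 := Subgroup.map_subtype_le _

theorem letter_S0 {k : ℕ} (hk : k = 0 ∨ k = 2 ∨ k = 4) : pl k ∈ S0 := by
  have h5 : k < 5 := by omega
  have hmem : Lt k ∈ chain 0 := by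
    have h2 : pW 0 ∈ chain 0 := chain_mono le_rfl (by norm_num)
    have h0 : pW 2 ∈ chain 0 := chain_mono (by norm_num) (by norm_num)
    have h4 : pW 1 ∈ chain 0 := chain_mono (by norm_num) (by norm_num)
    rcases hk with rfl | rfl | rfl
    · simpa [pW, pcWord, gW] using h0
    · exact pW_zero ▸ h2
    · have := mul_mem (inv_mem h2) h4
      simpa [pW, pcWord, gW] using this
  exact ⟨toM0 ⟨Lt k, Lt_mem k h5⟩, ⟨⟨Lt k, Lt_mem k h5⟩, hmem, rfl⟩,
    toM0_agree (g := ⟨Lt k, Lt_mem k h5⟩) (pl_mem k) (agree_letter h5)⟩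

theorem orbit_S0 {f : Fin 4060} (hf : Adj 0 f) (hs : f.val ∉ small3) : 6 ≤ (orbit S0 f).ncard := by
  have h := syl_ok
  simp only [sylOK, List.all_eq_true, List.mem_range, Bool.or_eq_true, Bool.not_eq_true',
    Nat.ble_eq, List.any_eq_true, Nat.beq_eq] at h
  rcases h f.val f.isLt with (h1 | ⟨x, hx, e⟩) | h3
  · rw [adj_zero] at hf; rw [hf] at h1; exact Bool.noConfusion h1
  · exact absurd (e ▸ hx) hs
  · refine h3.trans (grow_orbit (K := S0) ?_ 6 f).2
    intro t ht
    simp only [List.mem_cons, List.not_mem_nil, or_false] at ht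
    rcases ht with rfl | rfl | rfl
    exacts [⟨_, letter_S0 (Or.inl rfl), rep_pl 0⟩, ⟨_, letter_S0 (Or.inr (Or.inl rfl)), rep_pl 2⟩,
      ⟨_, letter_S0 (Or.inr (Or.inr rfl)), rep_pl 4⟩]

theorem ncard_adj_zero : {f : Fin 4060 | Adj 0 f}.ncard = 1755 := by
  rw [← L0_eq]; exact adj_ncard L0

/-- A subgroup of order 20480 fixes a neighbour of the first line. -/
theorem fixes_near {K : Subgroup (Perm (Fin 4060))} (hK : K ≤ M0) (hc : Nat.card K = 20480) :
    ∃ d : Fin 4060, Adj 0 d ∧ ∀ p ∈ K, p d = d := by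
  classical
  haveI := Fact.mk Nat.prime_two
  let Q : Sylow 2 K := default
  let P : Subgroup (Perm (Fin 4060)) := (Q : Subgroup K).map K.subtype
  have hP : Nat.card P = 2 ^ 12 := by
    rw [← Nat.card_congr (Subgroup.equivMapOfInjective _ _ K.subtype_injective).toEquiv,
      Q.card_eq_multiplicity, hc]
    congr 1
    rw [show (20480 : ℕ) = 2 ^ 12 * 5 by norm_num, Nat.factorization_mul (by norm_num) (by norm_num),
      Finsupp.add_apply, Nat.Prime.factorization_pow Nat.prime_two,
      Nat.Prime.factorization (by norm_num : Nat.Prime 5)]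
    simp
  have hPK : P ≤ K := Subgroup.map_subtype_le _
  have hPM : P ≤ M0 := hPK.trans hK
  -- a conjugate of `P` is the standard Sylow subgroup
  obtain ⟨h, hh, hconj⟩ : ∃ h ∈ M0, ∀ p, p ∈ P → h * p * h⁻¹ ∈ S0 := by
    have hS : IsPGroup 2 (S0.subgroupOf M0) := IsPGroup.of_card (n := 12) (by
      rw [Nat.card_congr (Subgroup.subgroupOfEquivOfLe S0_le).toEquiv, card_S0])
    have hP' : IsPGroup 2 (P.subgroupOf M0) := IsPGroup.of_card (n := 12) (by
      rw [Nat.card_congr (Subgroup.subgroupOfEquivOfLe hPM).toEquiv, hP])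
    obtain ⟨S, hSle⟩ := hS.exists_le_sylow
    obtain ⟨R, hRle⟩ := hP'.exists_le_sylow
    have hSeq : S0.subgroupOf M0 = (S : Subgroup M0) := by
      refine Subgroup.eq_of_le_of_card_ge hSle ?_
      rw [Nat.card_congr (Subgroup.subgroupOfEquivOfLe S0_le).toEquiv, card_S0, S.card_eq_multiplicity,
        card_M0]
      refine Nat.pow_le_pow_right (by norm_num) (le_of_eq ?_)
      rw [show (35942400 : ℕ) = 2 ^ 12 * 8775 by norm_num, Nat.factorization_mul (by norm_num) (by norm_num),
        Finsupp.add_apply, Nat.Prime.factorization_pow Nat.prime_two,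
        Nat.factorization_eq_zero_of_not_dvd (show ¬ 2 ∣ 8775 by norm_num)]
      simp
    obtain ⟨g, hg⟩ := MulAction.exists_smul_eq M0 R S
    refine ⟨g.1, g.2, fun p hp => ?_⟩
    have hmem : g * ⟨p, hPM hp⟩ * g⁻¹ ∈ S0.subgroupOf M0 := by
      rw [hSeq, ← hg, Sylow.coe_subgroup_smul]
      exact ⟨⟨p, hPM hp⟩, hRle (Subgroup.mem_subgroupOf.2 hp), rfl⟩
    exact Subgroup.mem_subgroupOf.1 hmem
  -- a fixed point of `P`
  let D : Set (Fin 4060) := {f | Adj 0 f}
  let act : MulAction P D :=
    { smul := fun p f => ⟨p.1 f.1, (M0_adj (hPM p.2)).2 f.2⟩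
      one_smul := fun f => Subtype.ext rfl
      mul_smul := fun p q f => Subtype.ext rfl }
  obtain ⟨⟨u, hu⟩, hfix⟩ : (fixedPoints P D).Nonempty := by
    have hmod := IsPGroup.card_modEq_card_fixedPoints (IsPGroup.of_card hP) D
    rw [Nat.card_coe_set_eq, ncard_adj_zero] at hmod
    by_contra hne
    rw [Set.not_nonempty_iff_eq_empty] at hne
    rw [hne, Nat.card_coe_set_eq, Set.ncard_empty] at hmod
    exact absurd hmod (by decide)
  have hPu : ∀ p ∈ P, p u = u := fun p hp => congrArg Subtype.val (hfix ⟨p, hp⟩)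
  have hdvd : (orbit K u).ncard ∣ 5 := by
    have h1 : P.subgroupOf K ≤ stabilizer K u := fun x hx => hPu _ (Subgroup.mem_subgroupOf.1 hx)
    have h2 := Subgroup.card_dvd_of_le h1
    rw [Nat.card_congr (Subgroup.subgroupOfEquivOfLe hPK).toEquiv, hP] at h2
    have h3 := Subgroup.index_mul_card (stabilizer K u)
    rw [index_stabilizer, hc] at h3
    obtain ⟨c, hc'⟩ := h2
    rw [hc'] at h3
    exact ⟨c, by nlinarith [h3]⟩
  rcases (Nat.dvd_prime (by norm_num : Nat.Prime 5)).1 hdvd with h1 | h5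
  · obtain ⟨v, hv⟩ := Set.ncard_eq_one.1 h1
    refine ⟨u, hu, fun p hp => ?_⟩
    have hm : p u ∈ orbit K u := ⟨⟨p, hp⟩, rfl⟩
    have hm' := mem_orbit_self (M := K) u
    rw [hv, Set.mem_singleton_iff] at hm hm'
    rw [hm, ← hm']
  · exfalso
    have hsub : (fun x => (h x : Fin 4060)) '' orbit K u ⊆
        {f : Fin 4060 | f.val ∈ small3} := by
      rintro _ ⟨y, ⟨k, rfl⟩, rfl⟩
      by_contra hs
      have hD : Adj 0 (h (k • u)) := (M0_adj hh).2 ((M0_adj (hK k.2)).2 hu)
      have h6 := orbit_S0 hD hs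
      have himg : orbit S0 (h (k • u)) ⊆ (fun x => (h x : Fin 4060)) '' orbit K u := by
        rintro _ ⟨s, rfl⟩
        obtain ⟨q, hq, e⟩ : ∃ q ∈ P, h * q * h⁻¹ = s.1 := by
          have hcard : Nat.card S0 ≤ Nat.card P := le_of_eq (by rw [card_S0, hP])
          let φ : P → S0 := fun p => ⟨h * p.1 * h⁻¹, hconj _ p.2⟩
          have hφ : Function.Injective φ := fun p q e => Subtype.ext
            (mul_left_cancel (mul_right_cancel (congrArg Subtype.val e)))
          obtain ⟨p, hp⟩ := ((Nat.bijective_iff_injective_and_card φ).2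
            ⟨hφ, by rw [card_S0, hP]⟩).2 s
          exact ⟨p.1, p.2, congrArg Subtype.val hp⟩
        refine ⟨q (k • u), ⟨⟨q, hPK hq⟩ * k, rfl⟩, ?_⟩
        show h (q (k • u)) = s.1 (h (k • u))
        rw [← e]
        simp [Equiv.Perm.mul_apply]
      have := h6.trans (Set.ncard_le_ncard himg)
      rw [Set.ncard_image_of_injective _ h.injective, h5] at this
      omega
    have h3 : ({f : Fin 4060 | f.val ∈ small3}).ncard ≤ 3 := by
      calc ({f : Fin 4060 | f.val ∈ small3}).ncard
          ≤ ({20, 471, 837} : Set (Fin 4060)).ncard := Set.ncard_le_ncard fun f hf => by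
            simp only [small3, Set.mem_setOf_eq, List.mem_cons, List.not_mem_nil, or_false] at hf
            rcases hf with e | e | e
            · exact Or.inl (Fin.ext e)
            · exact Or.inr (Or.inl (Fin.ext e))
            · exact Or.inr (Or.inr (Fin.ext e))
        _ ≤ 3 := by
          refine (Set.ncard_insert_le _ _).trans ?_
          refine Nat.succ_le_succ ((Set.ncard_insert_le _ _).trans ?_)
          rw [Set.ncard_singleton]
    have := (Set.ncard_le_ncard hsub).trans h3
    rw [Set.ncard_image_of_injective _ h.injective, h5] at this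
    omega

end CfsgLib.RuRank3
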