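import Cfsg.Prelude.Def_Spor_Ru
import Cfsg.Agent.Lib.Recog.RuRank3.StabD
import Cfsg.Agent.Lib.Recog.RuRank3.Rigid

/-!
A rank three group on 4060 points with point stabiliser `²F₄(2)` is the Rudvalis group, given that subgroups of
order 15600 of the model stabiliser fix a line far from the first one.
-/

set_option autoImplicit false
set_option maxRecDepth 100000
set_option Elab.async false

namespace CfsgLib.RuRank3

open CfsgLib.Ru MulAction Equiv

attribute [local irreducible] tb ev lt maskD row20 grow kls klsR klsN rowE swapW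

/-- The fixed line of a subgroup of order 15600. -/
def FarStmt : Prop :=
  ∀ {K : Subgroup (Perm (Fin 4060))}, K ≤ M0 → Nat.card K = 15600 →
    ∃ w : Fin 4060, w ≠ 0 ∧ ¬ Adj 0 w ∧ ∀ p ∈ K, p w = w

theorem swap_ok : Nat.beq (applyW toL1W (4 * ev swapW 20) / 4) 0 = true := by decide +kernel

theorem exists_model_swap : ∃ g ∈ H, g 0 = F20 ∧ g F20 = 0 := by
  refine ⟨psi (wordE toL1W) * pe swapW, mul_mem ⟨_, rfl⟩ (pe_mem _).1, ?_, ?_⟩
  · show psi (wordE toL1W) (pe swapW 0) = F20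
    rw [M0_fix (pe_mem _), psi_apply, ← L0_eq, word_L1, L1_eq]
  · refine Fin.ext ?_
    show (psi (wordE toL1W) (pe swapW F20)).val = 0
    rw [rep_word, rep_pe]
    exact Nat.eq_of_beq_eq_true swap_ok

theorem Ext.eq_H (E : Ext) : E.G = H := by
  haveI := H_pretransitive
  obtain ⟨g0, hg0, e0, e20⟩ := exists_model_swap
  obtain ⟨g, hg, f0, f20⟩ := E.exists_swap
  have i0 : g0.symm 0 = F20 := by rw [Equiv.symm_apply_eq, e20]
  have i20 : g0.symm F20 = 0 := by rw [Equiv.symm_apply_eq, e0]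
  have hadj : ∀ {x y : Fin 4060}, Adj (g0.symm x) (g0.symm y) ↔ Adj x y := fun {x y} =>
    adj_perm (show g0⁻¹ ∈ H from inv_mem hg0)
  have hs : Good (g0⁻¹ * g) := by
    refine ⟨?_, ?_, fun f => ?_, fun f => ?_, fun u hu f => ?_⟩
    · show g0.symm (g 0) = 0
      rw [f0, i20]
    · show g0.symm (g F20) = F20
      rw [f20, i0]
    · show Adj 0 (g0.symm (g f)) ↔ _
      conv_lhs => rw [← i20, hadj, ← E.RG_twenty, ← f0, E.RG_smul hg, E.RG_zero]
    · show Adj F20 (g0.symm (g f)) ↔ _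
      conv_lhs => rw [← i0, hadj, ← E.RG_zero, ← f20, E.RG_smul hg, E.RG_twenty]
    · show Adj (g0.symm (g u)) (g0.symm (g f)) ↔ _
      have hgu : Adj 0 (g u) := by
        rw [← E.RG_zero, ← f20, E.RG_smul hg, E.RG_twenty]
        exact hu.2
      rw [hadj, ← E.RG_near hgu, E.RG_smul hg, E.RG_near hu.1]
  have hmem : g0⁻¹ * g ∈ M0 := (rigid hs).1
  have hg0G : g0 ∈ E.G := by
    have h := mul_mem hg (inv_mem (E.le hmem))
    rwa [show g * (g0⁻¹ * g)⁻¹ = g0 by group] at h
  haveI := H_preprimitive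
  have hmax : IsCoatom (stabilizer H (0 : Fin 4060)) :=
    IsPreprimitive.isCoatom_stabilizer_of_isPreprimitive (G := H) (X := Fin 4060) (0 : Fin 4060)
  have htop : E.G.subgroupOf H = ⊤ := by
    refine hmax.2 _ (lt_of_le_of_ne (fun x hx => E.le ⟨x.2, mem_stabilizer_iff.1 hx⟩) fun he => ?_)
    have h : (⟨g0, hg0⟩ : H) ∈ stabilizer H (0 : Fin 4060) := he ▸ (show (⟨g0, hg0⟩ : H) ∈ E.G.subgroupOf H from hg0G)
    have h' : g0 0 = 0 := mem_stabilizer_iff.1 h
    rw [e0] at h'
    exact zero_ne_twenty h'.symm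
  have hle : H ≤ E.G := fun x hx => by
    have h : (⟨x, hx⟩ : H) ∈ E.G.subgroupOf H := htop ▸ Subgroup.mem_top _
    exact h
  refine (SetLike.ext' ?_)
  refine Set.Subset.antisymm (fun x hx => ?_) hle
  obtain ⟨y, hy⟩ := exists_smul_eq H (0 : Fin 4060) (x 0)
  have hy' : y.1 0 = x 0 := hy
  have h : y.1⁻¹ * x ∈ M0 := E.fix _ (mul_mem (inv_mem (hle y.2)) hx)
    (show y.1.symm (x 0) = 0 by rw [← hy', Equiv.symm_apply_apply])
  have := mul_mem y.2 h.1
  rwa [mul_inv_cancel_left] at this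

/-! ### Relabelling -/

section Relabel

variable {Ω : Type*} [Fintype Ω] {G : Subgroup (Perm Ω)} {a : Ω} (φ : stabilizer G a ≃* M0)

/-- A point and a line correspond. -/
def Same (y : Ω) (d : Fin 4060) : Prop :=
  ∀ k : stabilizer G a, k • y = y ↔ (φ k : Perm (Fin 4060)) d = d

theorem exists_same {y : Ω} {n : ℕ} (hn : (orbit (stabilizer G a) y).ncard = n) {d : Fin 4060}
    (hd : (orbit M0 d).ncard = n)
    (hfix : ∀ k : stabilizer G a, k • y = y → (φ k : Perm (Fin 4060)) d = d) : Same φ y d := by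
  let K := stabilizer (stabilizer G a) y
  have h1 := Subgroup.index_mul_card K
  rw [index_stabilizer, hn, Nat.card_congr φ.toEquiv] at h1
  have h2 := Subgroup.index_mul_card (stabilizer M0 d)
  rw [index_stabilizer, hd] at h2
  have hle : K.map φ.toMonoidHom ≤ stabilizer M0 d := by
    rintro _ ⟨k, hk, rfl⟩
    exact hfix k hk
  have hn0 : n ≠ 0 := by
    rintro rfl
    simp [card_M0] at h2
  have heq : K.map φ.toMonoidHom = stabilizer M0 d := by
    refine Subgroup.eq_of_le_of_card_ge hle (le_of_eq ?_)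
    rw [← Nat.card_congr (Subgroup.equivMapOfInjective K _ φ.injective).toEquiv]
    exact Nat.eq_of_mul_eq_mul_left (Nat.pos_of_ne_zero hn0) (h2.trans h1.symm)
  intro k
  refine ⟨hfix k, fun h => ?_⟩
  have hm : φ k ∈ K.map φ.toMonoidHom := by rw [heq]; exact h
  obtain ⟨k', hk', e⟩ := hm
  exact φ.injective e ▸ hk'

theorem card_fixed {y : Ω} {n : ℕ} (hn : (orbit (stabilizer G a) y).ncard = n) :
    n * Nat.card (((stabilizer (stabilizer G a) y).map φ.toMonoidHom).map M0.subtype) = 35942400 := by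
  rw [← Nat.card_congr (Subgroup.equivMapOfInjective _ _ M0.subtype_injective).toEquiv,
    ← Nat.card_congr (Subgroup.equivMapOfInjective _ _ φ.injective).toEquiv]
  have h1 := Subgroup.index_mul_card (stabilizer (stabilizer G a) y)
  rw [index_stabilizer, hn, Nat.card_congr φ.toEquiv, card_M0] at h1
  exact h1

end Relabel

/-- The recognition. -/
theorem iso_of_far (hfar : FarStmt) {Ω : Type*} [Fintype Ω] [DecidableEq Ω] (hΩ : Fintype.card Ω = 4060)
    (G : Subgroup (Perm Ω)) [IsPretransitive G Ω] (a : Ω)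
    (e : stabilizer G a ≃* Cfsg.Lie.twistedF4 (ZMod 2) 1) (b c : Ω)
    (hb : (orbit (stabilizer G a) b).ncard = 1755) (hc : (orbit (stabilizer G a) c).ncard = 2304) :
    Cfsg.Spor.IsoRu G := by
  classical
  let φ : stabilizer G a ≃* M0 := e.trans treeIso
  obtain ⟨d, hd, hdfix⟩ := fixes_near (Subgroup.map_subtype_le _)
    (Nat.eq_of_mul_eq_mul_left (by norm_num : 0 < 1755)
      ((card_fixed φ hb).trans (by norm_num : 35942400 = 1755 * 20480)))
  obtain ⟨w, hw0, hw, hwfix⟩ := hfar (Subgroup.map_subtype_le _)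
    (Nat.eq_of_mul_eq_mul_left (by norm_num : 0 < 2304)
      ((card_fixed φ hc).trans (by norm_num : 35942400 = 2304 * 15600)))
  have hSd : Same φ b d := exists_same φ hb (M0_orbit_adj.2 hd)
    fun k hk => hdfix _ ⟨φ k, ⟨k, hk, rfl⟩, rfl⟩
  have hwn : (orbit M0 w).ncard = 2304 := by
    rw [M0_orbit_ncard, if_neg (fun h => hw (L0_eq ▸ adj_L0.2 h)), if_neg (fun h => hw0 (h.trans L0_eq))]
  have hSw : Same φ c w := exists_same φ hc hwn fun k hk => hwfix _ ⟨φ k, ⟨k, hk, rfl⟩, rfl⟩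
  have hSa : Same φ a 0 := fun k => ⟨fun _ => M0_fix (φ k).2, fun _ => mem_stabilizer_iff.1 k.2⟩
  -- the correspondence
  let Rel : Ω → Fin 4060 → Prop := fun y f => ∃ k : stabilizer G a,
    (y = k • a ∧ f = (φ k : Perm (Fin 4060)) 0) ∨ (y = k • b ∧ f = (φ k : Perm (Fin 4060)) d) ∨
      (y = k • c ∧ f = (φ k : Perm (Fin 4060)) w)
  have horb : ∀ {x : Ω} {f : Fin 4060}, Same φ x f → ∀ k k' : stabilizer G a,
      k • x = k' • x ↔ (φ k : Perm (Fin 4060)) f = (φ k' : Perm (Fin 4060)) f := by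
    intro x f hS k k'
    rw [eq_comm, ← inv_smul_eq_iff, ← mul_smul, hS, map_mul, map_inv, Subgroup.coe_mul, Subgroup.coe_inv]
    show (φ k : Perm (Fin 4060)).symm ((φ k' : Perm (Fin 4060)) f) = f ↔ _
    rw [Equiv.symm_apply_eq, eq_comm]
  have hcover : ∀ y : Ω, ∃ k : stabilizer G a, y = k • a ∨ y = k • b ∨ y = k • c := by
    intro y
    by_contra hne
    push Not at hne
    have hab : Disjoint (orbit (stabilizer G a) b) (orbit (stabilizer G a) c) := by
      refine (orbit.eq_or_disjoint b c).resolve_left fun he => ?_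
      rw [he, hc] at hb
      norm_num at hb
    have hsing : orbit (stabilizer G a) a = {a} := Set.eq_singleton_iff_unique_mem.2
      ⟨mem_orbit_self a, fun z ⟨k, hk⟩ => hk ▸ mem_stabilizer_iff.1 k.2⟩
    have hsub : insert y (insert a (orbit (stabilizer G a) b ∪ orbit (stabilizer G a) c)) ⊆ Set.univ :=
      Set.subset_univ _
    have h := Set.ncard_le_ncard hsub
    have hna : a ∉ orbit (stabilizer G a) b ∪ orbit (stabilizer G a) c := by
      intro hm
      rcases hm with hm | hm <;> have := orbit_eq_iff.2 hm <;> rw [hsing] at this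
      · rw [← this, Set.ncard_singleton] at hb; norm_num at hb
      · rw [← this, Set.ncard_singleton] at hc; norm_num at hc
    rw [Set.ncard_insert_of_notMem, Set.ncard_insert_of_notMem hna, Set.ncard_union_eq hab, hb, hc,
      Set.ncard_univ, Nat.card_eq_fintype_card, hΩ] at h
    · omega
    · intro hm
      rcases hm with rfl | hm
      · exact (hne 1).1 (one_smul _ _).symm
      · rcases hm with ⟨k, hk⟩ | ⟨k, hk⟩
        exacts [(hne k).2.1 hk.symm, (hne k).2.2 hk.symm]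
  have hdA : ∀ k : stabilizer G a, Adj 0 ((φ k : Perm (Fin 4060)) d) := fun k => (M0_adj (φ k).2).2 hd
  have hwA : ∀ k : stabilizer G a, ¬ Adj 0 ((φ k : Perm (Fin 4060)) w) ∧
      (φ k : Perm (Fin 4060)) w ≠ 0 := fun k =>
    ⟨fun h => hw ((M0_adj (φ k).2).1 h), fun h => hw0 ((φ k : Perm (Fin 4060)).injective
      (h.trans (M0_fix (φ k).2).symm))⟩
  have hsep : ∀ f, ∀ y y' : Ω, Rel y f → Rel y' f → y = y' := by
    rintro f y y' ⟨k, hk⟩ ⟨k', hk'⟩
    rcases hk with ⟨rfl, rfl⟩ | ⟨rfl, rfl⟩ | ⟨rfl, rfl⟩ <;>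
      rcases hk' with ⟨rfl, h⟩ | ⟨rfl, h⟩ | ⟨rfl, h⟩
    · exact (horb hSa k k').2 h
    · exact absurd (h ▸ M0_fix (φ k).2 : (φ k' : Perm (Fin 4060)) d = 0)
        (fun e => not_adj_self 0 (by have := hdA k'; rwa [e] at this))
    · exact absurd (h ▸ M0_fix (φ k).2 : (φ k' : Perm (Fin 4060)) w = 0) (hwA k').2
    · exact absurd (h.trans (M0_fix (φ k').2)) (fun e => not_adj_self 0 (by
        have := hdA k; rwa [e] at this))
    · exact (horb hSd k k').2 h
    · exact absurd (h ▸ hdA k) (hwA k').1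
    · exact absurd (h.trans (M0_fix (φ k').2)) (hwA k).2
    · exact absurd (h.symm ▸ hdA k') (hwA k).1
    · exact (horb hSw k k').2 h
  have htot : ∀ y : Ω, ∃ f, Rel y f := fun y => by
    obtain ⟨k, h | h | h⟩ := hcover y
    exacts [⟨_, k, Or.inl ⟨h, rfl⟩⟩, ⟨_, k, Or.inr (Or.inl ⟨h, rfl⟩)⟩, ⟨_, k, Or.inr (Or.inr ⟨h, rfl⟩)⟩]
  choose F hF using htot
  have hinj : Function.Injective F := fun y y' h => hsep (F y) y y' (hF y) (h ▸ hF y')
  have hbij : Function.Bijective F := (Fintype.bijective_iff_injective_and_card F).2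
    ⟨hinj, by rw [hΩ, Fintype.card_fin]⟩
  let π : Ω ≃ Fin 4060 := Equiv.ofBijective F hbij
  have heq : ∀ (k : stabilizer G a) (y : Ω), F (k • y) = (φ k : Perm (Fin 4060)) (F y) := by
    intro k y
    obtain ⟨z, hz⟩ := hbij.2 ((φ k : Perm (Fin 4060)) (F y))
    rw [← hz]
    congr 1
    refine hsep (F z) _ _ ?_ (hF z)
    rw [hz]
    obtain ⟨k', h⟩ := hF y
    refine ⟨k * k', ?_⟩
    rw [map_mul, Subgroup.coe_mul]
    rcases h with ⟨h1, h2⟩ | ⟨h1, h2⟩ | ⟨h1, h2⟩
    · exact Or.inl ⟨by rw [mul_smul, ← h1], by rw [h2]; rfl⟩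
    · exact Or.inr (Or.inl ⟨by rw [mul_smul, ← h1], by rw [h2]; rfl⟩)
    · exact Or.inr (Or.inr ⟨by rw [mul_smul, ← h1], by rw [h2]; rfl⟩)
  have hFa : F a = 0 := by
    obtain ⟨z, hz⟩ := hbij.2 (0 : Fin 4060)
    have : a = z := hsep (F z) a z (by
      rw [hz]; exact ⟨1, Or.inl ⟨(one_smul _ _).symm, by rw [map_one]; rfl⟩⟩) (hF z)
    rw [this, hz]
  let G' : Subgroup (Perm (Fin 4060)) := G.map π.permCongrHom.toMonoidHom
  have happ : ∀ (g : Perm Ω) (y : Ω), π.permCongrHom g (F y) = F (g y) := fun g y => by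
    show π (g (π.symm (π y))) = π (g y)
    rw [Equiv.symm_apply_apply]
  have himg : ∀ k : stabilizer G a, π.permCongrHom (k : G).1 = (φ k : Perm (Fin 4060)) := fun k =>
    Equiv.ext fun f => by
      obtain ⟨y, rfl⟩ := hbij.2 f
      rw [happ]
      exact heq k y
  let E : Ext :=
    { G := G'
      le := fun p hp => ⟨((φ.symm ⟨p, hp⟩ : stabilizer G a) : G).1, ((φ.symm ⟨p, hp⟩ : stabilizer G a) : G).2, by
        show π.permCongrHom _ = p
        rw [himg, φ.apply_symm_apply]⟩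
      fix := by
        rintro _ ⟨g, hg, rfl⟩ h0
        have hga : g a = a := hinj (by
          rw [← happ, hFa]
          exact h0)
        have := himg ⟨⟨g, hg⟩, mem_stabilizer_iff.2 hga⟩
        show π.permCongrHom g ∈ M0
        rw [this]
        exact SetLike.coe_mem _
      trans := fun x => by
        obtain ⟨y, rfl⟩ := hbij.2 x
        obtain ⟨g, hg⟩ := exists_smul_eq G a y
        exact ⟨_, ⟨g.1, g.2, rfl⟩, by
          show π.permCongrHom g.1 0 = F y
          rw [← hFa, happ]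
          exact congrArg F hg⟩ }
  have hH : G' = H := E.eq_H
  exact ⟨((Subgroup.equivMapOfInjective G _ π.permCongrHom.injective).trans
    (MulEquiv.subgroupCongr hH)).trans ruEquivH.symm⟩

end CfsgLib.RuRank3
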