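import Cfsg.Agent.Lib.Recog.RuRank3.RowChecks

/-!
Kernel checks on the classes of lines for the stabiliser of two adjacent lines and on the refinement of the
common neighbours of the two lines.
-/

set_option autoImplicit false
set_option maxRecDepth 100000
set_option Elab.async false

namespace CfsgLib.RuRank3

/-- The class of a line for the stabiliser of the first two lines. -/
def kls (f : ℕ) : ℕ :=
  bif Nat.beq f 0 then 0 else bif Nat.beq f 20 then 7 else
  bif maskD.testBit f then
    (bif row20.testBit f then
      (bif (clsM.getD 0 0).testBit f then 1 else bif (clsM.getD 1 0).testBit f then 2 else 3)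
    else 4)
  else bif row20.testBit f then 5 else 6

/-- A line of each class. -/
def klsR (k : ℕ) : ℕ :=
  [0, (rowE 0).1, (rowE 1).1, (rowE 2).1, baseX, baseFar.1, baseFar.2, 20].getD k 0

/-- The sizes of the classes. -/
def klsN (k : ℕ) : ℕ := [1, 10, 80, 640, 1024, 1024, 1280, 1].getD k 0

/-- The generators of the stabiliser of the first two lines. -/
def pGens : List (ℕ → ℕ) := [lt 0, lt 2, lt 3, lt 4]

/-- A class is one orbit. -/
def klsOK (k : ℕ) : Bool :=
  let m := (grow pGens 4061 (klsR k)).1
  Nat.beq (kls (klsR k)) k && Nat.beq ((List.range 4060).countP fun f => Nat.beq (kls f) k) (klsN k) &&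
    (List.range 4060).all fun f => !(Nat.beq (kls f) k) || m.testBit f

theorem kls_ok : ((List.range 8).all klsOK) = true := by decide +kernel

/-- Being a common neighbour. -/
def inC (f : ℕ) : Bool := maskD.testBit f && row20.testBit f

/-- The numbers of common neighbours of the three representatives. -/
def degR (k : ℕ) : ℕ := (List.range 4060).countP fun f => inC f && (rowE k).2.2.testBit f

theorem deg_ok : degR 0 ≠ degR 1 ∧ degR 0 ≠ degR 2 ∧ degR 1 ≠ degR 2 := by decide +kernel

/-- The number of neighbours in a listed set. -/
def cntL (l : List ℕ) (f : ℕ) : ℕ := l.countP fun i => (rowE i).2.2.testBit f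

/-- The colour before the refinement. -/
def col0 (f : ℕ) : ℕ := kls f * 2 + bif (rowE baseXI).2.2.testBit f then 1 else 0

/-- The colour after some steps of refinement. -/
def colAfter (c : ℕ → ℕ) (done : List (List ℕ)) (f : ℕ) : ℕ :=
  done.foldl (fun v l => v * 128 + cntL l f) (c f)

/-- The colour after the first stage. -/
def colA (f : ℕ) : ℕ := colAfter col0 setsA f

/-- The colour at the start of the second stage. -/
def colB0 (f : ℕ) : ℕ := colA f * 2 + bif Nat.beq f baseY then 1 else 0

/-- The colour after the second stage. -/
def colB (f : ℕ) : ℕ := colAfter colB0 setsB f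

/-- A listed set is a class of common neighbours. -/
def setOK (c : ℕ → ℕ) (done : List (List ℕ)) (l : List ℕ) : Bool :=
  let t := colAfter c done (rowE (l.headD 0)).1
  distinctN (l.map fun i => (rowE i).1) && (l.all fun i => inC (rowE i).1) &&
    (List.range 4060).all fun f => !(inC f) ||
      (Nat.beq (colAfter c done f) t == (l.map fun i => (rowE i).1).any (Nat.beq f))
where
  /-- The numbers in a list are distinct. -/
  distinctN : List ℕ → Bool
    | [] => true
    | x :: xs => !(xs.any (Nat.beq x)) && distinctN xs

/-- All sets of a stage. -/
def stageOK (c : ℕ → ℕ) (sets : List (List ℕ)) : Bool :=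
  (List.range sets.length).all fun j => setOK c (sets.take j) (sets.getD j [])

theorem stageA_ok : stageOK col0 setsA = true := by decide +kernel
theorem stageB_ok : stageOK colB0 setsB = true := by decide +kernel

/-- The second base line and its class. -/
def orbitOK : Bool :=
  let t := colA baseY
  let m := (grow (stabW.map fun w => ev w) 21 baseY).1
  inC baseY && Nat.beq (rowE baseXI).1 baseX &&
  (stabW.all fun w => Nat.beq (ev w 20) 20 && Nat.beq (ev w baseX) baseX) &&
  (List.range 4060).all fun f => !(inC f) || !(Nat.beq (colA f) t) || m.testBit f

theorem orbit_ok : orbitOK = true := by decide +kernel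

/-- The separating lines are determined by their final colours. -/
def finalOK : Bool :=
  (List.range 4060).all fun f => !(inC f) ||
    (let t := colB f
     sepL.all fun i => !(Nat.beq (colB (rowE i).1) t) || Nat.beq (rowE i).1 f)

theorem final_ok : finalOK = true := by decide +kernel

end CfsgLib.RuRank3
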