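import Cfsg.Agent.Lib.Recog.RuRank3.RigidChecks
import Cfsg.Agent.Lib.Recog.RuRank3.Sep

/-!
In a transitive group containing the stabiliser as a point stabiliser the orbital graph of degree 1755 agrees with
the model at all lines joined to the first one.
-/

set_option autoImplicit false
set_option maxRecDepth 100000
set_option Elab.async false

namespace CfsgLib.RuRank3

open CfsgLib.Ru MulAction Equiv

attribute [local irreducible] tb ev lt maskD row20 grow kls klsR klsN rowE

/-- A transitive group with the given point stabiliser. -/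
structure Ext where
  /-- The group. -/
  G : Subgroup (Perm (Fin 4060))
  le : M0 ≤ G
  fix : ∀ g ∈ G, g 0 = 0 → g ∈ M0
  trans : ∀ x, ∃ g ∈ G, g 0 = x

theorem kls_spec {k : ℕ} (hk : k < 8) : kls (klsR k) = k ∧
    (List.range 4060).countP (fun f => Nat.beq (kls f) k) = klsN k ∧
    ∀ f < 4060, kls f = k → (grow pGens 4061 (klsR k)).1.testBit f = true := by
  have h := List.all_eq_true.1 kls_ok k (List.mem_range.2 hk)
  simp only [klsOK, Bool.and_eq_true, List.all_eq_true, List.mem_range, Nat.beq_eq, Bool.or_eq_true,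
    Bool.not_eq_true'] at h
  refine ⟨h.1.1, h.1.2, fun f hf e => (h.2 f hf).resolve_left fun hb => ?_⟩
  rw [e, Nat.beq_refl] at hb
  exact Bool.noConfusion hb

theorem kls_lt (f : ℕ) : kls f < 8 := by
  unfold kls
  simp only [cond_eq_ite]
  split_ifs <;> norm_num

/-- The stabiliser of the first two lines. -/
noncomputable def P : Subgroup (Perm (Fin 4060)) where
  carrier := {p | p ∈ M0 ∧ p F20 = F20}
  one_mem' := ⟨one_mem _, rfl⟩
  mul_mem' := by
    rintro p q ⟨hp, hp'⟩ ⟨hq, hq'⟩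
    exact ⟨mul_mem hp hq, show p (q F20) = F20 by rw [hq', hp']⟩
  inv_mem' := by
    rintro p ⟨hp, hp'⟩
    exact ⟨inv_mem hp, show p.symm F20 = F20 from p.injective (by rw [Equiv.apply_symm_apply, hp'])⟩

theorem letters_fix : lt 0 20 = 20 ∧ lt 2 20 = 20 ∧ lt 3 20 = 20 ∧ lt 4 20 = 20 := by decide +kernel

theorem pGens_mem : ∀ t ∈ pGens, ∃ p ∈ P, Rep p t := by
  intro t ht
  obtain ⟨h0, h2, h3, h4⟩ := letters_fix
  simp only [pGens, List.mem_cons, List.not_mem_nil, or_false] at ht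
  have key : ∀ k, lt k 20 = 20 → ∃ p ∈ P, Rep p (lt k) := fun k hk =>
    ⟨pl k, ⟨pl_mem k, Fin.ext (by rw [rep_pl]; exact hk)⟩, rep_pl k⟩
  rcases ht with rfl | rfl | rfl | rfl
  exacts [key 0 h0, key 2 h2, key 3 h3, key 4 h4]

theorem klsR_lt {k : ℕ} (hk : k < 8) : klsR k < 4060 := by
  have h : ((List.range 8).all fun k => Nat.blt (klsR k) 4060) = true := by decide +kernel
  exact Nat.le_of_ble_eq_true (List.all_eq_true.1 h k (List.mem_range.2 hk))

/-- The representative of a class. -/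
def klsF (k : Fin 8) : Fin 4060 := ⟨klsR k.val, klsR_lt k.isLt⟩

/-- The class of a line. -/
def klsK (f : Fin 4060) : Fin 8 := ⟨kls f.val, kls_lt f.val⟩

theorem kls_reach (f : Fin 4060) : ∃ p ∈ P, p (klsF (klsK f)) = f := by
  have h := (kls_spec (kls_lt f.val)).2.2 f.val f.isLt rfl
  obtain ⟨p, hp, e⟩ := (grow_orbit pGens_mem 4061 (klsF (klsK f))).1 f.val h
  exact ⟨p, hp, Fin.ext e⟩

theorem kls_same {f f' : Fin 4060} (h : kls f.val = kls f'.val) : ∃ p ∈ P, p f = f' := by
  obtain ⟨p, hp, e⟩ := kls_reach f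
  obtain ⟨q, hq, e'⟩ := kls_reach f'
  rw [show klsK f' = klsK f from Fin.ext h.symm] at e'
  refine ⟨q * p⁻¹, mul_mem hq (inv_mem hp), ?_⟩
  show q (p.symm f) = f'
  rw [(Equiv.symm_apply_eq p).2 e.symm, e']

theorem kls_count (k : Fin 8) : {f : Fin 4060 | klsK f = k}.ncard = klsN k.val := by
  rw [← (kls_spec k.isLt).2.1, ← ncard_cond]
  congr 1
  ext f
  simp [klsK, Fin.ext_iff]

/-! ### The orbital -/

theorem M0_orbit_ncard (f : Fin 4060) :
    (orbit M0 f).ncard = if orth0 f.val then 1755 else if f = L0 then 1 else 2304 := by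
  rw [← orbit_stab_L0]
  congr 1
  ext y
  constructor
  · rintro ⟨p, rfl⟩
    exact ⟨⟨⟨p.1, p.2.1⟩, mem_stabilizer_iff.2 (by rw [L0_eq]; exact p.2.2)⟩, rfl⟩
  · rintro ⟨k, rfl⟩
    refine ⟨⟨(k : H).1, (k : H).2, ?_⟩, rfl⟩
    exact (congrArg ((k : H).1) L0_eq.symm).trans ((mem_stabilizer_iff.1 k.2).trans L0_eq)

theorem M0_orbit_adj {f : Fin 4060} : (orbit M0 f).ncard = 1755 ↔ Adj 0 f := by
  rw [M0_orbit_ncard, ← L0_eq, adj_L0]
  cases orth0 f.val <;> simp
  split_ifs <;> norm_num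

theorem reach_near {f : Fin 4060} (h : Adj 0 f) : ∃ p ∈ M0, p F20 = f := by
  rw [← L0_eq, adj_L0] at h
  obtain ⟨a, ha, e⟩ := reach_orth h
  rw [L0_eq] at ha
  rw [L1_eq] at e
  exact ⟨a.1, ⟨a.2, ha⟩, e⟩

theorem near_ncard : {f : Fin 4060 | Adj 0 f}.ncard = 1755 := by
  rw [← L0_eq]; exact adj_ncard L0

namespace Ext

variable (E : Ext)

/-- The orbital of degree 1755. -/
def RG (x y : Fin 4060) : Prop := ∃ g ∈ E.G, g 0 = x ∧ g F20 = y

theorem RG_zero {y : Fin 4060} : E.RG 0 y ↔ Adj 0 y := by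
  constructor
  · rintro ⟨g, hg, h0, rfl⟩
    exact (M0_adj (E.fix g hg h0)).2 F20_mem
  · intro h
    obtain ⟨p, hp, e⟩ := reach_near h
    exact ⟨p, E.le hp, M0_fix hp, e⟩

theorem RG_smul {g : Perm (Fin 4060)} (hg : g ∈ E.G) {x y : Fin 4060} : E.RG (g x) (g y) ↔ E.RG x y := by
  constructor
  · rintro ⟨h, hh, h0, h1⟩
    exact ⟨g⁻¹ * h, mul_mem (inv_mem hg) hh, by
      show g.symm (h 0) = x; rw [h0, Equiv.symm_apply_apply], by
      show g.symm (h F20) = y; rw [h1, Equiv.symm_apply_apply]⟩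
  · rintro ⟨h, hh, rfl, rfl⟩
    exact ⟨g * h, mul_mem hg hh, rfl, rfl⟩

theorem exists_swap : ∃ g ∈ E.G, g 0 = F20 ∧ g F20 = 0 := by
  obtain ⟨a, ha, ea⟩ := E.trans F20
  set w := a.symm 0 with hw
  have haw : a w = 0 := Equiv.apply_symm_apply _ _
  have hs : ∀ p, p ∈ M0 → p w = w → a * p * a⁻¹ ∈ M0 ∧ (a * p * a⁻¹) F20 = F20 := by
    intro p hp hpw
    refine ⟨E.fix _ (mul_mem (mul_mem ha (E.le hp)) (inv_mem ha)) ?_, ?_⟩
    · show a (p (a.symm 0)) = 0
      rw [← hw, hpw, haw]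
    · show a (p (a.symm F20)) = F20
      rw [(Equiv.symm_apply_eq a).2 ea.symm, M0_fix hp, ea]
  have hback : ∀ p, p ∈ M0 → p F20 = F20 → a⁻¹ * p * a ∈ M0 ∧ (a⁻¹ * p * a) w = w := by
    intro p hp hp20
    refine ⟨E.fix _ (mul_mem (mul_mem (inv_mem ha) (E.le hp)) ha) ?_, ?_⟩
    · show a.symm (p (a 0)) = 0
      rw [ea, hp20, ← ea, Equiv.symm_apply_apply]
    · show a.symm (p (a w)) = w
      rw [haw, M0_fix hp]
  let φ : stabilizer M0 w ≃ stabilizer M0 F20 :=
    { toFun := fun p => ⟨⟨_, (hs p.1.1 p.1.2 p.2).1⟩, (hs p.1.1 p.1.2 p.2).2⟩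
      invFun := fun p => ⟨⟨_, (hback p.1.1 p.1.2 p.2).1⟩, (hback p.1.1 p.1.2 p.2).2⟩
      left_inv := fun p => Subtype.ext (Subtype.ext (show a⁻¹ * (a * p.1.1 * a⁻¹) * a = p.1.1 by group))
      right_inv := fun p => Subtype.ext (Subtype.ext (show a * (a⁻¹ * p.1.1 * a) * a⁻¹ = p.1.1 by group)) }
  have h1 := Subgroup.index_mul_card (stabilizer M0 w)
  have h2 := Subgroup.index_mul_card (stabilizer M0 F20)
  rw [Nat.card_congr φ, ← h2, index_stabilizer, index_stabilizer, M0_orbit_adj.2 F20_mem] at h1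
  have hw' : Adj 0 w := M0_orbit_adj.1 (Nat.eq_of_mul_eq_mul_right Nat.card_pos h1)
  obtain ⟨q, hq, eq'⟩ := reach_near hw'
  refine ⟨q⁻¹ * a⁻¹, mul_mem (inv_mem (E.le hq)) (inv_mem ha), ?_, ?_⟩
  · show q.symm (a.symm 0) = F20
    rw [← hw, ← eq', Equiv.symm_apply_apply]
  · show q.symm (a.symm F20) = 0
    rw [(Equiv.symm_apply_eq a).2 ea.symm]
    exact q.injective (by rw [Equiv.apply_symm_apply, M0_fix hq])

theorem RG_comm {x y : Fin 4060} : E.RG x y → E.RG y x := by
  rintro ⟨g, hg, rfl, rfl⟩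
  obtain ⟨s, hs, e1, e2⟩ := E.exists_swap
  exact ⟨g * s, mul_mem hg hs, by show g (s 0) = g F20; rw [e1], by show g (s F20) = g 0; rw [e2]⟩

/-- The neighbours of the line 20 are those of the model. -/
theorem RG_twenty (y : Fin 4060) : E.RG F20 y ↔ Adj F20 y := by
  classical
  let N : Set (Fin 4060) := {y | E.RG F20 y}
  have hNcard : N.ncard = 1755 := by
    obtain ⟨g, hg, e1, e2⟩ := E.exists_swap
    have e : N = (fun y => g y) '' {f : Fin 4060 | Adj 0 f} := by
      ext y
      constructor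
      · intro hy
        refine ⟨g.symm y, ?_, Equiv.apply_symm_apply _ _⟩
        show Adj 0 _
        rw [← E.RG_zero, ← E.RG_smul hg, e1, Equiv.apply_symm_apply]
        exact hy
      · rintro ⟨f, hf, rfl⟩
        show E.RG F20 (g f)
        rw [← e1, E.RG_smul hg, E.RG_zero]
        exact hf
    rw [e, Set.ncard_image_of_injective _ g.injective, near_ncard]
  let T : Finset (Fin 8) := Finset.univ.filter fun k => klsF k ∈ N
  have hN : ∀ f, f ∈ N ↔ klsK f ∈ T := by
    intro f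
    obtain ⟨p, hp, e⟩ := kls_reach f
    simp only [T, Finset.mem_filter, Finset.mem_univ, true_and]
    show E.RG F20 f ↔ E.RG F20 (klsF (klsK f))
    conv_lhs => rw [← e, ← hp.2]
    exact E.RG_smul (E.le hp.1)
  have hsum : ∑ k ∈ T, klsN k.val = 1755 := by
    rw [← hNcard]
    have e : N.toFinset = T.biUnion fun k => Finset.univ.filter fun f => klsK f = k := by
      ext f; simp [hN]
    rw [Set.ncard_eq_toFinset_card', e, Finset.card_biUnion]
    · refine Finset.sum_congr rfl fun k _ => ?_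
      rw [← kls_count k, Set.ncard_eq_toFinset_card']
      congr 1
      ext f; simp
    · intro i _ j _ hij
      rw [Function.onFun, Finset.disjoint_left]
      intro f hf hf'
      simp only [Finset.mem_filter, Finset.mem_univ, true_and] at hf hf'
      exact hij (hf.symm.trans hf')
  have h0 : klsK 0 = 0 := by decide +kernel
  have h7 : klsK F20 = 7 := by decide +kernel
  have hz : (0 : Fin 8) ∈ T := by
    rw [← h0, ← hN]
    exact E.RG_comm (E.RG_zero.2 F20_mem)
  have hn7 : (7 : Fin 8) ∉ T := by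
    rw [← h7, ← hN]
    rintro ⟨g, -, e1, e2⟩
    exact zero_ne_twenty (g.injective (e1.trans e2.symm))
  have subsets : ∀ S : Finset (Fin 8), 0 ∈ S → 7 ∉ S → ∑ k ∈ S, klsN k.val = 1755 →
      S = {0, 1, 2, 3, 5} ∨ S = {0, 1, 2, 3, 4} := by decide +kernel
  have hmodel : ∀ f : Fin 4060, Adj F20 f ↔ klsK f ∈ ({0, 1, 2, 3, 5} : Finset (Fin 8)) := by
    intro f
    have hk : ((List.range 4060).all fun f =>
        row20.testBit f == [0, 1, 2, 3, 5].any (Nat.beq (kls f))) = true := by decide +kernel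
    have h := List.all_eq_true.1 hk f.val (List.mem_range.2 f.isLt)
    rw [beq_iff_eq] at h
    rw [adj_twenty, h]
    simp [List.any_cons, Nat.beq_eq, klsK, Fin.ext_iff, or_assoc]
  rcases subsets T hz hn7 hsum with hT | hT
  · show y ∈ N ↔ _
    rw [hN, hT, hmodel]
  exfalso
  -- otherwise the first line and its neighbours form a clique
  have hball : ∀ f : Fin 4060, klsK f ∈ ({0, 1, 2, 3, 4} : Finset (Fin 8)) → f = 0 ∨ Adj 0 f := by
    intro f hf
    have hk : ((List.range 4060).all fun f =>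
        !([0, 1, 2, 3, 4].any (Nat.beq (kls f))) || Nat.beq f 0 || maskD.testBit f) = true := by
      decide +kernel
    have h := List.all_eq_true.1 hk f.val (List.mem_range.2 f.isLt)
    simp only [Bool.or_eq_true, Bool.not_eq_true', Bool.eq_false_iff, List.any_cons, List.any_nil,
      Nat.beq_eq, Bool.or_false] at h
    rcases h with (h | h) | h
    · refine absurd ?_ h
      simpa [klsK, Fin.ext_iff, or_assoc, Nat.beq_eq] using hf
    · exact Or.inl (Fin.ext h)
    · exact Or.inr ((adj_zero f).2 h)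
  let B : Set (Fin 4060) := {f | f = 0 ∨ Adj 0 f}
  have hclosed : ∀ x ∈ B, ∀ z, E.RG x z → z ∈ B := by
    intro x hx z hxz
    rcases hx with rfl | hx
    · exact Or.inr (E.RG_zero.1 hxz)
    · obtain ⟨p, hp, rfl⟩ := reach_near hx
      rw [← Equiv.apply_symm_apply p z, E.RG_smul (E.le hp)] at hxz
      have hm : klsK (p.symm z) ∈ T := (hN _).1 hxz
      rw [hT] at hm
      rw [← Equiv.apply_symm_apply p z]
      rcases hball _ hm with h | h
      · exact Or.inl (by rw [h, M0_fix hp])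
      · exact Or.inr ((M0_adj hp).2 h)
  have hBcard : B.ncard = 1756 := by
    rw [show B = insert 0 {f : Fin 4060 | Adj 0 f} from rfl,
      Set.ncard_insert_of_notMem (show (0 : Fin 4060) ∉ {f | Adj 0 f} from not_adj_self 0), near_ncard]
  have htrans : ∀ g ∈ E.G, ∀ g' ∈ E.G, g' 0 ∈ (fun f => g f) '' B →
      (fun f => g' f) '' B = (fun f => g f) '' B := by
    intro g hg g' hg' ⟨b, hb, hgb⟩
    have hsub : (fun f => (g⁻¹ * g') f) '' B ⊆ B := by
      have h0' : (g⁻¹ * g') 0 = b := by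
        show g.symm (g' 0) = b
        rw [← hgb, Equiv.symm_apply_apply]
      rintro _ ⟨f, hf, rfl⟩
      rcases hf with rfl | hf
      · show (g⁻¹ * g') 0 ∈ B
        rw [h0']
        exact hb
      · refine hclosed b hb _ ?_
        rw [← h0', E.RG_smul (mul_mem (inv_mem hg) hg'), E.RG_zero]
        exact hf
    have he := Set.eq_of_subset_of_ncard_le hsub
      (le_of_eq (Set.ncard_image_of_injective _ (g⁻¹ * g').injective).symm)
    conv_rhs => rw [← he]
    rw [Set.image_image]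
    exact Set.image_congr fun f _ => (Equiv.apply_symm_apply g (g' f)).symm
  have hdisj : ∀ g ∈ E.G, ∀ g' ∈ E.G, g' 0 ∉ (fun f => g f) '' B →
      Disjoint ((fun f => g f) '' B) ((fun f => g' f) '' B) := by
    intro g hg g' hg' hne
    rw [Set.disjoint_left]
    intro z hz hz'
    obtain ⟨c, hc, ec⟩ := E.trans z
    refine hne ?_
    rw [← htrans g hg c hc (ec ▸ hz), htrans g' hg' c hc (ec ▸ hz')]
    exact ⟨0, Or.inl rfl, rfl⟩
  have hcard : ∀ g : Perm (Fin 4060), ((fun f => g f) '' B).ncard = 1756 := fun g => by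
    rw [Set.ncard_image_of_injective _ g.injective, hBcard]
  have huniv : ∀ s : Set (Fin 4060), s.ncard ≤ 4060 := fun s =>
    (Set.ncard_le_ncard (Set.subset_univ s)).trans (by rw [Set.ncard_univ, Nat.card_fin])
  obtain ⟨z, hz⟩ : ∃ z, z ∉ B := by
    by_contra hall
    push Not at hall
    rw [Set.eq_univ_of_forall hall, Set.ncard_univ, Nat.card_fin] at hBcard
    norm_num at hBcard
  obtain ⟨c, hc, ec⟩ := E.trans z
  have hB1 : (fun f => (1 : Perm (Fin 4060)) f) '' B = B := Set.image_id _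
  have d1 := hdisj 1 (one_mem _) c hc (by rw [hB1, ec]; exact hz)
  rw [hB1] at d1
  obtain ⟨z', hz'⟩ : ∃ z', z' ∉ B ∪ (fun f => c f) '' B := by
    by_contra hall
    push Not at hall
    have := Set.ncard_union_eq d1
    rw [Set.eq_univ_of_forall hall, Set.ncard_univ, Nat.card_fin, hBcard, hcard] at this
    norm_num at this
  obtain ⟨c', hc', ec'⟩ := E.trans z'
  rw [Set.mem_union, not_or] at hz'
  have d2 := hdisj 1 (one_mem _) c' hc' (by rw [hB1, ec']; exact hz'.1)
  rw [hB1] at d2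
  have d3 := hdisj c hc c' hc' (by rw [ec']; exact hz'.2)
  have := Set.ncard_union_eq (Set.disjoint_union_left.2 ⟨d2, d3⟩)
  rw [Set.ncard_union_eq d1, hBcard, hcard, hcard] at this
  have := huniv ((B ∪ (fun f => c f) '' B) ∪ (fun f => c' f) '' B)
  omega

/-- The graph agrees with the model at all neighbours of the first line. -/
theorem RG_near {u : Fin 4060} (hu : Adj 0 u) (y : Fin 4060) : E.RG u y ↔ Adj u y := by
  obtain ⟨p, hp, rfl⟩ := reach_near hu
  rw [← Equiv.apply_symm_apply p y, E.RG_smul (E.le hp), E.RG_twenty, adj_perm hp.1]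

end Ext

end CfsgLib.RuRank3
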