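import Cfsg.Agent.Lib.Recog.RuRank3.Basic
import Cfsg.Agent.Lib.Recog.RuRank3.RigidData

/-!
Kernel checks of the stored rows and of the separation of all lines by them.
-/

set_option autoImplicit false
set_option maxRecDepth 100000
set_option Elab.async false

namespace CfsgLib.RuRank3

/-- A row with its line and word. -/
def rowE (i : ℕ) : ℕ × List ℕ × ℕ := rowL.getD i (20, [], row20)

/-- The check of one row. -/
def rowOK (i : ℕ) : Bool :=
  let e := rowE i
  Nat.beq (ev e.2.1 20) e.1 && (List.range 4060).all fun f => e.2.2.testBit (ev e.2.1 f) == row20.testBit f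

theorem rows_a : ((List.range 30).all rowOK) = true := by decide +kernel
theorem rows_b : ((List.range' 30 30).all rowOK) = true := by decide +kernel
theorem rows_c : ((List.range' 60 29).all rowOK) = true := by decide +kernel
theorem rows_len : rowL.length = 89 := by decide +kernel

/-- The signature of a line. -/
def sigS (x : ℕ) : ℕ := sepL.foldr (fun i s => 2 * s + bif (rowE i).2.2.testBit x then 1 else 0) 0

/-- The check of the separation. -/
def sepOK : Bool :=
  (List.range 4058).all (fun i => Nat.blt (sigS (tb sepT i)) (sigS (tb sepT (i + 1)))) &&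
  (List.range 4060).all (fun x => Nat.blt (tb sepP x) 4060 && Nat.beq (tb sepT (tb sepP x)) x) &&
  Nat.beq (tb sepT 4058) 0 && Nat.beq (tb sepT 4059) 20 &&
  sepL.all fun i => maskD.testBit (rowE i).1 && row20.testBit (rowE i).1

theorem sep_ok : sepOK = true := by decide +kernel

end CfsgLib.RuRank3
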