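import Cfsg.Agent.Lib.Recog.RuRank3.StabSChecks
import Mathlib.GroupTheory.Sylow
import Mathlib.GroupTheory.NoncommCoprod

/-!
A subgroup of order 15600 of the stabiliser of a line fixes a line outside its neighbourhood: it holds a
conjugate of a fixed group of order 25 that it does not normalise, and a second conjugate together with this
group either has an orbit of impossible length or fixes exactly one such line.
-/

set_option autoImplicit false
set_option maxRecDepth 100000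
set_option Elab.async false

namespace CfsgLib.RuRank3

open CfsgLib.Ru MulAction Equiv
open scoped Pointwise

attribute [local irreducible] tb ev lt grow itT maskD sigM gam cjT repT repI reV reW wordTab eqT

theorem eqT_spec {f g : ℕ → ℕ} (h : eqT f g = true) : ∀ x < 4060, f x = g x := by
  intro x hx
  unfold eqT at h
  exact Nat.eq_of_beq_eq_true (List.all_eq_true.1 h x (List.mem_range.2 hx))

theorem rep_itT {p : Perm (Fin 4060)} {f : ℕ → ℕ} (h : Rep p f) : ∀ n, Rep (p ^ n) (itT f n)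
  | 0 => fun x => by simp [itT]
  | n + 1 => fun x => by
    rw [pow_succ', show itT f (n + 1) x.val = f (itT f n x.val) by rw [itT]]
    exact h.mul (rep_itT h n) x

theorem rep_conj {h B : Perm (Fin 4060)} {t a b : ℕ → ℕ} (rh : Rep h t) (rB : Rep B b)
    (e : ∀ x < 4060, a (t x) = t (b x)) : Rep (h * B * h⁻¹) a := fun f => by
  obtain ⟨g, rfl⟩ := h.surjective f
  rw [Perm.mul_apply, Perm.mul_apply, Perm.inv_def, Equiv.symm_apply_apply, rh, rB, rh]
  exact (e g.val g.isLt).symm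

/-! ### The generators -/

/-- The first element of order five. -/
noncomputable def pP : Perm (Fin 4060) := pe tabPW

/-- The second element of order five. -/
noncomputable def pQ : Perm (Fin 4060) := pe tabQW

theorem words_PQ : wordTab tabP tabPW = true ∧ wordTab tabQ tabQW = true ∧ wordTab tabG tabGW = true ∧
    wordTab tabK tabKW = true ∧ wordTab tabNu tabNuW = true := by
  have h := wordPQ_ok
  simp only [wordPQ, Bool.and_eq_true] at h
  obtain ⟨⟨⟨⟨h1, h2⟩, h3⟩, h4⟩, h5⟩ := h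
  exact ⟨h1, h2, h3, h4, h5⟩

theorem rP : Rep pP (tb tabP) := rep_of_wordTab words_PQ.1

theorem rQ : Rep pQ (tb tabQ) := rep_of_wordTab words_PQ.2.1

theorem rG : Rep (pe tabGW) (tb tabG) := rep_of_wordTab words_PQ.2.2.1

theorem rK : Rep (pe tabKW) (tb tabK) := rep_of_wordTab words_PQ.2.2.2.1

theorem rNu : Rep (pe tabNuW) (tb tabNu) := rep_of_wordTab words_PQ.2.2.2.2

theorem rel_facts :
    (∀ x < 4060, itT (tb tabP) 5 x = x) ∧ (∀ x < 4060, itT (tb tabQ) 5 x = x) ∧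
    (∀ x < 4060, tb tabP (tb tabQ x) = tb tabQ (tb tabP x)) ∧ 25 ≤ (grow pqL 25 2).2 ∧
    (∀ x < 4060, itT (tb tabNu) 3 x = x) ∧ eqT (tb tabNu) (fun x => x) = false ∧
    tb tabP 1 = 1 ∧ tb tabQ 1 = 1 ∧ tb tabG 1 = 1 ∧ tb tabK 1 = 1 ∧ tb tabNu 1 = 1 := by
  have h := rel_ok
  simp only [relOK, Bool.and_eq_true, Bool.not_eq_true', Nat.ble_eq] at h
  obtain ⟨⟨⟨⟨⟨⟨⟨⟨⟨⟨⟨h1, h2⟩, h3⟩, h4⟩, h5⟩, h6⟩, -⟩, h8⟩, h9⟩, h10⟩, h11⟩, h12⟩ := h
  exact ⟨eqT_spec h1, eqT_spec h2, eqT_spec h3, h4, eqT_spec h5, h6, Nat.eq_of_beq_eq_true h8,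
    Nat.eq_of_beq_eq_true h9, Nat.eq_of_beq_eq_true h10, Nat.eq_of_beq_eq_true h11, Nat.eq_of_beq_eq_true h12⟩

theorem pP_pow : pP ^ 5 = 1 := (rep_itT rP 5).ext Rep.one rel_facts.1

theorem pQ_pow : pQ ^ 5 = 1 := (rep_itT rQ 5).ext Rep.one rel_facts.2.1

theorem pPQ : Commute pP pQ := (rP.mul rQ).ext (rQ.mul rP) rel_facts.2.2.1

/-- The line with number 1. -/
def F1 : Fin 4060 := ⟨1, by norm_num⟩

theorem fix_F1 {p : Perm (Fin 4060)} {t : ℕ → ℕ} (h : Rep p t) (e : t 1 = 1) : p F1 = F1 :=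
  Fin.ext ((h F1).trans e)

/-- The group of order 25. -/
noncomputable def E25 : Subgroup (Perm (Fin 4060)) := Subgroup.zpowers pP ⊔ Subgroup.zpowers pQ

theorem pP_mem : pP ∈ E25 := Subgroup.mem_sup_left (Subgroup.mem_zpowers _)

theorem pQ_mem : pQ ∈ E25 := Subgroup.mem_sup_right (Subgroup.mem_zpowers _)

theorem E25_le_M0 : E25 ≤ M0 :=
  sup_le (Subgroup.zpowers_le.2 (pe_mem _)) (Subgroup.zpowers_le.2 (pe_mem _))

/-- Products of powers of the two elements. -/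
noncomputable def homE : Subgroup.zpowers pP × Subgroup.zpowers pQ →* Perm (Fin 4060) :=
  (Subgroup.zpowers pP).subtype.noncommCoprod (Subgroup.zpowers pQ).subtype fun a b => by
    obtain ⟨i, hi⟩ := a.2
    obtain ⟨j, hj⟩ := b.2
    simp only [Subgroup.coe_subtype]
    rw [← hi, ← hj]
    exact pPQ.zpow_zpow i j

theorem E25_le_range : E25 ≤ homE.range := by
  refine sup_le (fun a ha => ⟨(⟨a, ha⟩, 1), ?_⟩) fun b hb => ⟨(1, ⟨b, hb⟩), ?_⟩ <;>
    simp [homE]

theorem E25_mem {g : Perm (Fin 4060)} (h : g ∈ E25) : ∃ i j : ℤ, pP ^ i * pQ ^ j = g := by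
  obtain ⟨⟨⟨a, i, rfl⟩, ⟨b, j, rfl⟩⟩, rfl⟩ := E25_le_range h
  exact ⟨i, j, by simp [homE]⟩

theorem E25_comm {g h : Perm (Fin 4060)} (hg : g ∈ E25) (hh : h ∈ E25) : Commute g h := by
  obtain ⟨i, j, rfl⟩ := E25_mem hg
  obtain ⟨k, l, rfl⟩ := E25_mem hh
  have c1 : Commute (pP ^ i) (pP ^ k * pQ ^ l) :=
    ((Commute.refl pP).zpow_zpow i k).mul_right (pPQ.zpow_zpow i l)
  have c2 : Commute (pQ ^ j) (pP ^ k * pQ ^ l) :=
    (pPQ.symm.zpow_zpow j k).mul_right ((Commute.refl pQ).zpow_zpow j l)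
  exact c1.mul_left c2

theorem pqL_mem {K : Subgroup (Perm (Fin 4060))} (hE : E25 ≤ K) :
    ∀ f ∈ pqL, ∃ p ∈ K, Rep p f := by
  intro f hf
  simp only [pqL, List.mem_cons, List.not_mem_nil, or_false] at hf
  rcases hf with rfl | rfl
  exacts [⟨_, hE pP_mem, rP⟩, ⟨_, hE pQ_mem, rQ⟩]

/-- The orbit and the stabiliser of a line in a subgroup. -/
theorem orbit_mul (K : Subgroup (Perm (Fin 4060))) (x : Fin 4060) :
    (orbit K x).ncard * Nat.card (K ⊓ stabilizer (Perm (Fin 4060)) x : Subgroup _) = Nat.card K := by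
  have e : (K ⊓ stabilizer (Perm (Fin 4060)) x).subgroupOf K = stabilizer K x := by
    ext k
    simp only [Subgroup.mem_subgroupOf, Subgroup.mem_inf, mem_stabilizer_iff, SetLike.coe_mem, true_and]
    rfl
  rw [← index_stabilizer, ← e,
    ← Nat.card_congr (Subgroup.subgroupOfEquivOfLe (inf_le_left : K ⊓ stabilizer _ x ≤ K)).toEquiv,
    Subgroup.index_mul_card]

theorem card_E25 : Nat.card E25 = 25 := by
  refine le_antisymm ?_ ?_
  · have h1 : Nat.card E25 ≤ Nat.card homE.range := Subgroup.card_le_of_le E25_le_range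
    refine h1.trans ((Nat.card_le_card_of_surjective _ homE.rangeRestrict_surjective).trans ?_)
    rw [Nat.card_prod, Nat.card_zpowers, Nat.card_zpowers]
    exact Nat.mul_le_mul (orderOf_le_of_pow_eq_one (by norm_num) pP_pow)
      (orderOf_le_of_pow_eq_one (by norm_num) pQ_pow)
  · have h := (grow_orbit (pqL_mem le_rfl) 25 (⟨2, by norm_num⟩ : Fin 4060)).2
    refine (rel_facts.2.2.2.1.trans h).trans (Nat.le_of_dvd Nat.card_pos ?_)
    exact Dvd.intro _ (orbit_mul E25 _)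

/-! ### Conjugate subgroups -/

/-- The conjugate of a subgroup. -/
def cjS (g : Perm (Fin 4060)) (F : Subgroup (Perm (Fin 4060))) : Subgroup (Perm (Fin 4060)) :=
  F.map (MulAut.conj g).toMonoidHom

theorem mem_cjS {g x : Perm (Fin 4060)} {F : Subgroup (Perm (Fin 4060))} :
    x ∈ cjS g F ↔ g⁻¹ * x * g ∈ F := by
  constructor
  · rintro ⟨y, hy, rfl⟩
    simpa [MulAut.conj_apply, mul_assoc] using hy
  · intro h
    exact ⟨_, h, by simp [MulAut.conj_apply, mul_assoc]⟩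

theorem cjS_mul (g h : Perm (Fin 4060)) (F : Subgroup (Perm (Fin 4060))) :
    cjS (g * h) F = cjS g (cjS h F) := by
  ext x
  simp only [mem_cjS, mul_inv_rev, mul_assoc]

theorem cjS_one (F : Subgroup (Perm (Fin 4060))) : cjS 1 F = F := by
  ext x
  simp [mem_cjS]

theorem card_cjS (g : Perm (Fin 4060)) (F : Subgroup (Perm (Fin 4060))) :
    Nat.card (cjS g F) = Nat.card F :=
  (Nat.card_congr (Subgroup.equivMapOfInjective F _ (MulAut.conj g).injective).toEquiv).symm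

theorem cjS_mono {g : Perm (Fin 4060)} {F F' : Subgroup (Perm (Fin 4060))} (h : F ≤ F') :
    cjS g F ≤ cjS g F' :=
  Subgroup.map_mono h

theorem cjS_le {g : Perm (Fin 4060)} {F F' : Subgroup (Perm (Fin 4060))} (hg : g ∈ F') (h : F ≤ F') :
    cjS g F ≤ F' := fun x hx => by
  rw [mem_cjS] at hx
  have := mul_mem (mul_mem hg (h hx)) (inv_mem hg)
  simpa [mul_assoc] using this

theorem cjS_fix {g : Perm (Fin 4060)} {F : Subgroup (Perm (Fin 4060))} {x : Fin 4060}
    (h : ∀ p ∈ F, p x = x) : ∀ p ∈ cjS g F, p (g x) = g x := by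
  rintro _ ⟨p, hp, rfl⟩
  show g (p (g⁻¹ (g x))) = g x
  rw [Perm.inv_def, Equiv.symm_apply_apply, h p hp]

/-- The normaliser of the group of order 25 in the stabiliser of the first line. -/
noncomputable def NE : Subgroup (Perm (Fin 4060)) where
  carrier := {g | g ∈ M0 ∧ cjS g E25 = E25}
  one_mem' := ⟨one_mem _, cjS_one _⟩
  mul_mem' := by
    rintro g h ⟨hg, hg'⟩ ⟨hh, hh'⟩
    exact ⟨mul_mem hg hh, by rw [cjS_mul, hh', hg']⟩
  inv_mem' := by
    rintro g ⟨hg, hg'⟩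
    refine ⟨inv_mem hg, ?_⟩
    conv_lhs => rw [← hg']
    rw [← cjS_mul, inv_mul_cancel, cjS_one]

theorem norm_gen {g : Perm (Fin 4060)} (hg : g ∈ M0) (h1 : g * pP * g⁻¹ ∈ E25)
    (h2 : g * pQ * g⁻¹ ∈ E25) : g ∈ NE := by
  refine ⟨hg, Subgroup.eq_of_le_of_card_ge ?_ (le_of_eq (card_cjS g E25).symm)⟩
  rw [cjS, Subgroup.map_le_iff_le_comap]
  exact sup_le (Subgroup.zpowers_le.2 (by simpa [MulAut.conj_apply] using h1))
    (Subgroup.zpowers_le.2 (by simpa [MulAut.conj_apply] using h2))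

theorem E25_le_NE : E25 ≤ NE := fun g hg => by
  refine norm_gen (E25_le_M0 hg) ?_ ?_
  · exact mul_mem (mul_mem hg pP_mem) (inv_mem hg)
  · exact mul_mem (mul_mem hg pQ_mem) (inv_mem hg)

theorem rep_pqT (a b : ℕ) : Rep (pP ^ a * pQ ^ b) (pqT a b) := fun x => by
  show ((pP ^ a * pQ ^ b) x).val = itT (tb tabP) a (itT (tb tabQ) b x.val)
  exact (rep_itT rP a).mul (rep_itT rQ b) x

theorem norm_at {T : ℕ} {w : List ℕ} (hw : Rep (pe w) (tb T)) {e : ℕ × ℕ × ℕ × ℕ}
    (h : normAt T e = true) : pe w ∈ NE := by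
  simp only [normAt, Bool.and_eq_true] at h
  have e1 : pe w * pP = pP ^ e.1 * pQ ^ e.2.1 * pe w :=
    (hw.mul rP).ext ((rep_pqT _ _).mul hw) (eqT_spec h.1)
  have e2 : pe w * pQ = pP ^ e.2.2.1 * pQ ^ e.2.2.2 * pe w :=
    (hw.mul rQ).ext ((rep_pqT _ _).mul hw) (eqT_spec h.2)
  refine norm_gen (pe_mem w) ?_ ?_
  · rw [e1, mul_inv_cancel_right]
    exact mul_mem (pow_mem pP_mem _) (pow_mem pQ_mem _)
  · rw [e2, mul_inv_cancel_right]
    exact mul_mem (pow_mem pP_mem _) (pow_mem pQ_mem _)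

theorem norm_list : ∀ f ∈ [tb tabP, tb tabQ, tb tabN0, tb tabN1, tb tabN2],
    ∃ p ∈ NE, Rep p f := by
  have h := norm_ok
  simp only [normOK, Bool.and_eq_true] at h
  obtain ⟨⟨⟨h0, h1⟩, h2⟩, -⟩ := h
  have w := wordN_ok
  simp only [wordN, Bool.and_eq_true] at w
  obtain ⟨⟨w0, w1⟩, w2⟩ := w
  intro f hf
  simp only [List.mem_cons, List.not_mem_nil, or_false] at hf
  rcases hf with rfl | rfl | rfl | rfl | rfl
  exacts [⟨_, E25_le_NE pP_mem, rP⟩, ⟨_, E25_le_NE pQ_mem, rQ⟩,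
    ⟨_, norm_at (rep_of_wordTab w0) h0, rep_of_wordTab w0⟩,
    ⟨_, norm_at (rep_of_wordTab w1) h1, rep_of_wordTab w1⟩,
    ⟨_, norm_at (rep_of_wordTab w2) h2, rep_of_wordTab w2⟩]

/-! ### The lines outside the neighbourhood -/

theorem sig_facts : (∀ f < 4060, sigM.testBit f = (!Nat.beq f 0 && !maskD.testBit f)) ∧
    (grow [lt 0, lt 1, lt 2, lt 3, lt 4] 4061 1).1 = sigM := by
  have h := sig_ok
  simp only [sigOK, Bool.and_eq_true, List.all_eq_true, List.mem_range, beq_iff_eq] at h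
  exact ⟨h.1.1, Nat.eq_of_beq_eq_true h.1.2⟩

theorem sig_iff (f : Fin 4060) : sigM.testBit f.val = true ↔ f ≠ 0 ∧ ¬ Adj 0 f := by
  rw [sig_facts.1 f.val f.isLt, Bool.and_eq_true, Bool.not_eq_true', Bool.not_eq_true',
    Bool.eq_false_iff, Bool.eq_false_iff, adj_zero]
  refine and_congr (not_congr ⟨fun h => Fin.ext ?_, fun h => ?_⟩) Iff.rfl
  · exact Nat.eq_of_beq_eq_true h
  · subst h
    rfl

theorem sig_perm {p : Perm (Fin 4060)} (hp : p ∈ M0) {x : Fin 4060}
    (hx : sigM.testBit x.val = true) : sigM.testBit (p x).val = true := by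
  rw [sig_iff] at hx ⊢
  refine ⟨fun h => hx.1 (p.injective (by rw [h, M0_fix hp])), fun h => hx.2 ((M0_adj hp).1 h)⟩

theorem letters_M0 : ∀ f ∈ [lt 0, lt 1, lt 2, lt 3, lt 4], ∃ p ∈ M0, Rep p f := by
  intro f hf
  simp only [List.mem_cons, List.not_mem_nil, or_false] at hf
  rcases hf with rfl | rfl | rfl | rfl | rfl <;> exact ⟨_, pl_mem _, rep_pl _⟩

theorem sig_F1 : sigM.testBit F1.val = true := by
  rw [sig_facts.1 _ F1.isLt]
  show (!Nat.beq 1 0 && !maskD.testBit 1) = true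
  decide +kernel

theorem sig_orbit : orbit M0 F1 = {f : Fin 4060 | f ≠ 0 ∧ ¬ Adj 0 f} := by
  ext f
  constructor
  · rintro ⟨m, rfl⟩
    exact (sig_iff _).1 (sig_perm m.2 sig_F1)
  · intro hf
    have hf' := (sig_iff f).2 hf
    rw [← sig_facts.2] at hf'
    obtain ⟨p, hp, e⟩ := (grow_orbit letters_M0 4061 F1).1 f.val hf'
    exact ⟨⟨p, hp⟩, Fin.ext e⟩

/-- The stabiliser of the line 1. -/
noncomputable def St : Subgroup (Perm (Fin 4060)) := M0 ⊓ stabilizer (Perm (Fin 4060)) F1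

theorem mem_St {p : Perm (Fin 4060)} : p ∈ St ↔ p ∈ M0 ∧ p F1 = F1 := Iff.rfl

theorem card_St : Nat.card St = 15600 := by
  have h := orbit_mul M0 F1
  rw [sig_orbit, card_M0] at h
  have hn : ({f : Fin 4060 | f ≠ 0 ∧ ¬ Adj 0 f}).ncard = 2304 := by
    rw [show {f : Fin 4060 | f ≠ 0 ∧ ¬ Adj 0 f} = (insert (0 : Fin 4060) {f | Adj 0 f})ᶜ from
      Set.ext fun f => by simp [not_or], Set.ncard_compl,
      Set.ncard_insert_of_notMem (show (0 : Fin 4060) ∉ {f | Adj 0 f} from not_adj_self 0), adj_ncard,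
      Nat.card_eq_fintype_card, Fintype.card_fin]
  rw [hn] at h
  show Nat.card (M0 ⊓ stabilizer (Perm (Fin 4060)) F1 : Subgroup _) = 15600
  omega

theorem E25_le_St : E25 ≤ St :=
  sup_le (Subgroup.zpowers_le.2 ⟨pe_mem _, fix_F1 rP rel_facts.2.2.2.2.2.2.1⟩)
    (Subgroup.zpowers_le.2 ⟨pe_mem _, fix_F1 rQ rel_facts.2.2.2.2.2.2.2.1⟩)

theorem long_orbit {x : Fin 4060} (hx : sigM.testBit x.val = true) (h4 : x.val ∉ fix4) :
    17 ≤ (orbit E25 x).ncard := by
  have h := long_ok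
  simp only [longOK, Bool.or_eq_true, Bool.not_eq_true', List.all_eq_true, List.mem_range,
    List.any_eq_true, Nat.ble_eq, Nat.beq_eq] at h
  rcases h x.val x.isLt with (h1 | ⟨y, hy, e⟩) | h3
  · rw [hx] at h1
    exact Bool.noConfusion h1
  · exact absurd (e ▸ hy) h4
  · exact h3.trans (grow_orbit (pqL_mem le_rfl) 17 x).2

theorem ncard_fix4 : ({x : Fin 4060 | x.val ∈ fix4}).ncard ≤ 4 := by
  calc ({x : Fin 4060 | x.val ∈ fix4}).ncard
      = (Fin.val '' {x : Fin 4060 | x.val ∈ fix4}).ncard :=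
        (Set.ncard_image_of_injective _ Fin.val_injective).symm
    _ ≤ (↑fix4.toFinset : Set ℕ).ncard :=
        Set.ncard_le_ncard (by rintro _ ⟨x, hx, rfl⟩; simpa using hx) (Finset.finite_toSet _)
    _ ≤ 4 := by
      rw [Set.ncard_coe_finset]
      exact (List.toFinset_card_le _).trans (le_of_eq rfl)

/-! ### The twenty-six conjugates -/

theorem conj_exists : ∀ i, i < 26 →
    ∃ c ∈ St, Rep (c * pP * c⁻¹) (tb (cjT i)) ∧ (i = 0 → c = 1) := by
  intro i
  induction i using Nat.strong_induction_on with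
  | _ i ih =>
    intro hi
    have h := tree_ok
    simp only [treeOK, Bool.and_eq_true, Bool.or_eq_true, List.all_eq_true, List.mem_range] at h
    obtain ⟨h0, h1⟩ := h
    rcases h1 i hi with e | ⟨hlt, hb⟩
    · have e' : i = 0 := Nat.eq_of_beq_eq_true e
      subst e'
      refine ⟨1, one_mem _, ?_, fun _ => rfl⟩
      rw [one_mul, inv_one, mul_one]
      exact rP.of_eq fun x hx => (eqT_spec h0 x hx).symm
    · rw [Nat.blt_eq] at hlt
      obtain ⟨c, hc, hr, -⟩ := ih _ hlt (hlt.trans hi)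
      have step : ∀ {w : List ℕ} {T : ℕ}, Rep (pe w) (tb T) → tb T 1 = 1 →
          (∀ x < 4060, tb (cjT i) (tb T x) = tb T (tb (cjT (conjTree.getD i (0, 0)).1) x)) →
          ∃ c' ∈ St, Rep (c' * pP * c'⁻¹) (tb (cjT i)) ∧ (i = 0 → c' = 1) := by
        intro w T hw h1' he
        refine ⟨pe w * c, mul_mem ⟨pe_mem w, fix_F1 hw h1'⟩ hc, ?_, fun e => absurd (e ▸ hlt) (Nat.not_lt_zero _)⟩
        rw [show pe w * c * pP * (pe w * c)⁻¹ = pe w * (c * pP * c⁻¹) * (pe w)⁻¹ by group]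
        exact rep_conj hw hr he
      cases hk : Nat.beq (conjTree.getD i (0, 0)).2 0
      · rw [hk, cond_false] at hb
        exact step rK rel_facts.2.2.2.2.2.2.2.2.2.1 (eqT_spec hb)
      · rw [hk, cond_true] at hb
        exact step rG rel_facts.2.2.2.2.2.2.2.2.1 (eqT_spec hb)

/-- The conjugates differ and exhaust the Sylow subgroups of the stabiliser of the line 1. -/
theorem sylow_St : Nat.card (St ⊓ NE : Subgroup (Perm (Fin 4060))) ≤ 600 ∧
    ∀ F ≤ St, Nat.card F = 25 →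
      ∃ i < 26, ∃ c ∈ St, Rep (c * pP * c⁻¹) (tb (cjT i)) ∧ (i = 0 → c = 1) ∧ cjS c E25 = F := by
  classical
  have : Fact (Nat.Prime 5) := ⟨by norm_num⟩
  choose c hc hr hz using conj_exists
  have hfac : (15600 : ℕ).factorization 5 = 2 := by
    rw [show (15600 : ℕ) = 5 ^ 2 * 624 by norm_num, Nat.factorization_mul (by norm_num) (by norm_num),
      Finsupp.add_apply, Nat.Prime.factorization_pow (by norm_num : Nat.Prime 5),
      Nat.factorization_eq_zero_of_not_dvd (show ¬ 5 ∣ 624 by norm_num)]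
    simp
  have hcard : Nat.card (E25.subgroupOf St) = 5 ^ (Nat.card St).factorization 5 := by
    rw [Nat.card_congr (Subgroup.subgroupOfEquivOfLe E25_le_St).toEquiv, card_E25, card_St, hfac]
    norm_num
  let P0 : Sylow 5 St := Sylow.ofCard (E25.subgroupOf St) hcard
  have hP0 : (P0 : Subgroup St) = E25.subgroupOf St := rfl
  have hmem : ∀ (g x : St), x ∈ ((g • P0 : Sylow 5 St) : Subgroup St) ↔ x.1 ∈ cjS g.1 E25 := by
    intro g x
    rw [Sylow.coe_subgroup_smul, Subgroup.mem_pointwise_smul_iff_inv_smul_mem, hP0, mem_cjS,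
      Subgroup.mem_subgroupOf, MulAut.smul_def, ← map_inv, MulAut.conj_apply, inv_inv]
    rfl
  let f : Fin 26 → Sylow 5 St := fun i => (⟨c i i.2, hc i i.2⟩ : St) • P0
  have hinj : Function.Injective f := by
    intro i j hij
    by_contra hne
    have hself : ∀ k : Fin 26, c k k.2 * pP * (c k k.2)⁻¹ ∈ cjS (c k k.2) E25 := fun k => by
      rw [mem_cjS]
      simpa [mul_assoc] using pP_mem
    have hSt : c i i.2 * pP * (c i i.2)⁻¹ ∈ St :=
      mul_mem (mul_mem (hc i i.2) (E25_le_St pP_mem)) (inv_mem (hc i i.2))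
    have hi : c i i.2 * pP * (c i i.2)⁻¹ ∈ cjS (c j j.2) E25 := by
      have h1 := (hmem ⟨c i i.2, hc i i.2⟩ ⟨_, hSt⟩).2 (hself i)
      rw [show (⟨c i i.2, hc i i.2⟩ : St) • P0 = (⟨c j j.2, hc j j.2⟩ : St) • P0 from hij] at h1
      exact (hmem _ _).1 h1
    obtain ⟨a, ha, hae⟩ := hi
    obtain ⟨b, hb, hbe⟩ := hself j
    have hcomm : Commute (c i i.2 * pP * (c i i.2)⁻¹) (c j j.2 * pP * (c j j.2)⁻¹) := by
      rw [← hae, ← hbe]
      exact (E25_comm ha hb).map _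
    have hnc : ∀ a b : Fin 26, b.val < a.val →
        ¬ Commute (c a a.2 * pP * (c a a.2)⁻¹) (c b b.2 * pP * (c b b.2)⁻¹) := by
      intro a b hab he
      have h := comm_ok
      simp only [commOK, List.all_eq_true, List.mem_range, List.any_eq_true, Bool.not_eq_true'] at h
      obtain ⟨x, hx, hxn⟩ := h a.val a.2 b.val hab
      have hx' : x < 4060 := by omega
      have e1 := ((hr a a.2).mul (hr b b.2)) ⟨x, hx'⟩
      rw [he.eq, ((hr b b.2).mul (hr a a.2)) ⟨x, hx'⟩] at e1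
      exact Nat.ne_of_beq_eq_false hxn e1.symm
    rcases Nat.lt_or_gt_of_ne (Fin.val_ne_of_ne hne) with hlt | hlt
    · exact hnc j i hlt hcomm.symm
    · exact hnc i j hlt hcomm
  have : Fintype (Sylow 5 St) := Fintype.ofFinite _
  have h26 : 26 ≤ Nat.card (Sylow 5 St) := by
    simpa using Nat.card_le_card_of_injective f hinj
  let N : Subgroup St := Subgroup.normalizer ((P0 : Subgroup St) : Set St)
  have hN : Nat.card (Sylow 5 St) * Nat.card N = 15600 := by
    rw [P0.card_eq_index_normalizer, ← card_St]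
    exact Subgroup.index_mul_card N
  have hle : (St ⊓ NE).subgroupOf St ≤ N := by
    intro g hg
    have hg' : cjS g.1 E25 = E25 := (Subgroup.mem_subgroupOf.1 hg).2.2
    show g ∈ Subgroup.normalizer ((P0 : Subgroup St) : Set St)
    rw [hP0, Subgroup.mem_normalizer_iff]
    intro x
    rw [Subgroup.mem_subgroupOf, Subgroup.mem_subgroupOf]
    conv_rhs => rw [← hg', mem_cjS]
    simp [mul_assoc]
  have hdvd := Subgroup.card_dvd_of_le hle
  rw [Nat.card_congr (Subgroup.subgroupOfEquivOfLe (inf_le_left : St ⊓ NE ≤ St)).toEquiv] at hdvd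
  have hNle : Nat.card N ≤ 600 := by nlinarith
  refine ⟨(Nat.le_of_dvd Nat.card_pos hdvd).trans hNle, ?_⟩
  have hnu : pe tabNuW ∈ St ⊓ NE := by
    have h := norm_ok
    simp only [normOK, Bool.and_eq_true] at h
    exact ⟨⟨pe_mem _, fix_F1 rNu rel_facts.2.2.2.2.2.2.2.2.2.2⟩, norm_at rNu h.2⟩
  have h3 : 3 ∣ Nat.card N := by
    have : Fact (Nat.Prime 3) := ⟨Nat.prime_three⟩
    have hord : orderOf (pe tabNuW) = 3 := by
      refine orderOf_eq_prime ((rep_itT rNu 3).ext Rep.one rel_facts.2.2.2.2.1) fun h1 => ?_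
      have h6 := rel_facts.2.2.2.2.2.1
      have : eqT (tb tabNu) (fun x => x) = true := by
        unfold eqT
        refine List.all_eq_true.2 fun x hx => ?_
        have := rNu ⟨x, List.mem_range.1 hx⟩
        rw [h1] at this
        exact Nat.beq_eq.mpr this.symm
      rw [this] at h6
      exact Bool.noConfusion h6
    exact (hord ▸ Subgroup.orderOf_dvd_natCard _ hnu).trans hdvd
  have h25 : 25 ∣ Nat.card N :=
    (card_E25 ▸ Subgroup.card_dvd_of_le (le_inf E25_le_St E25_le_NE)).trans hdvd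
  have hmod : Nat.card (Sylow 5 St) ≡ 1 [MOD 5] := card_sylow_modEq_one 5 St
  have hn5 : Nat.card (Sylow 5 St) = 26 := by
    obtain ⟨m, hm⟩ := Nat.Coprime.mul_dvd_of_dvd_of_dvd (by norm_num : Nat.Coprime 3 25) h3 h25
    rw [hm] at hN
    have hdiv : Nat.card (Sylow 5 St) ∣ 208 := ⟨m, by nlinarith⟩
    have key : ∀ n ∈ Nat.divisors 208, n % 5 = 1 → 26 ≤ n → n = 26 := by decide
    exact key _ (Nat.mem_divisors.2 ⟨hdiv, by norm_num⟩) hmod h26
  have hsurj : Function.Surjective f :=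
    ((Nat.bijective_iff_injective_and_card f).2 ⟨hinj, by rw [hn5]; simp⟩).2
  intro F hF hFc
  obtain ⟨i, hi⟩ := hsurj (Sylow.ofCard (F.subgroupOf St) (by
    rw [Nat.card_congr (Subgroup.subgroupOfEquivOfLe hF).toEquiv, hFc, card_St, hfac]
    norm_num))
  refine ⟨i, i.2, c i i.2, hc i i.2, hr i i.2, hz i i.2, ?_⟩
  have hEF : cjS (c i i.2) E25 ≤ F := by
    intro x hx
    have hxS : x ∈ St := cjS_le (hc i i.2) E25_le_St hx
    have h1 := (hmem ⟨c i i.2, hc i i.2⟩ ⟨x, hxS⟩).2 hx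
    rw [show (⟨c i i.2, hc i i.2⟩ : St) • P0 = _ from hi] at h1
    exact Subgroup.mem_subgroupOf.1 h1
  exact Subgroup.eq_of_le_of_card_ge hEF (le_of_eq (by rw [hFc, card_cjS, card_E25]))

/-! ### The main case -/

theorem kill_all {k : ℕ × ℕ × ℕ} (hk : k ∈ killL) : killAt k = true := by
  have hsplit : ∀ j, k ∈ (killL.drop (20 * j)).take 20 → j < 4 → killAt k = true := by
    intro j hkj hj
    interval_cases j
    exacts [List.all_eq_true.1 kill_zero k hkj, List.all_eq_true.1 kill_one k hkj,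
      List.all_eq_true.1 kill_two k hkj, List.all_eq_true.1 kill_three k hkj]
  obtain ⟨n, hn, rfl⟩ := List.getElem_of_mem hk
  have := kill_len
  refine hsplit (n / 20) ?_ (by omega)
  rw [List.mem_iff_getElem]
  refine ⟨n % 20, ?_, ?_⟩
  · rw [List.length_take, List.length_drop]
    omega
  · rw [List.getElem_take, List.getElem_drop]
    simp [Nat.div_add_mod]

theorem rep_inv_repT {r : ℕ} (hr : r < 4) :
    Rep (pe (reW r))⁻¹ (tb (repI r)) ∧ (pe (reW r) F1).val = reV r := by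
  have h := rep_ok
  simp only [repOK, Bool.and_eq_true, List.all_eq_true, List.mem_range] at h
  obtain ⟨h1, h2⟩ := h.1 r hr
  have hw : Rep (pe (reW r)) (tb (repT r)) :=
    rep_of_wordTab (List.all_eq_true.1 wordR_ok r (List.mem_range.2 hr))
  refine ⟨fun f => ?_, (hw F1).trans (Nat.eq_of_beq_eq_true h1)⟩
  obtain ⟨g, rfl⟩ := (pe (reW r)).surjective f
  rw [Perm.inv_def, Equiv.symm_apply_apply, hw]
  exact (eqT_spec h2 g.val g.isLt).symm

theorem reW_zero : reW 0 = [] := by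
  have h := rep_ok
  simp only [repOK, Bool.and_eq_true] at h
  simpa using h.2

theorem cover_sig {u : Fin 4060} (hu : sigM.testBit u.val = true) :
    ∃ r < 4, ∃ n ∈ NE, n (pe (reW r) F1) = u := by
  have h := Nat.eq_of_beq_eq_true (show _ = true from cover_ok)
  rw [h, Nat.testBit_or, Nat.testBit_or, Nat.testBit_or, Bool.or_eq_true, Bool.or_eq_true,
    Bool.or_eq_true] at hu
  have key : ∀ r < 4, (grow [tb tabP, tb tabQ, tb tabN0, tb tabN1, tb tabN2] 4061 (reV r)).1.testBit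
      u.val = true → ∃ r < 4, ∃ n ∈ NE, n (pe (reW r) F1) = u := by
    intro r hr hb
    rw [← (rep_inv_repT hr).2] at hb
    obtain ⟨n, hn, e⟩ := (grow_orbit norm_list 4061 _).1 u.val hb
    exact ⟨r, hr, n, hn, Fin.ext e⟩
  rcases hu with ((h0 | h1) | h2) | h3
  exacts [key 0 (by norm_num) h0, key 1 (by norm_num) h1, key 2 (by norm_num) h2, key 3 (by norm_num) h3]

/-- A subgroup containing the group of order 25 does not normalise it. -/
theorem not_norm {K : Subgroup (Perm (Fin 4060))} (hK : K ≤ M0) (hc : Nat.card K = 15600) :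
    ∃ k ∈ K, cjS k E25 ≠ E25 := by
  by_contra hall
  push Not at hall
  have hsub : orbit K F1 ⊆ {x : Fin 4060 | x.val ∈ fix4} := by
    rintro _ ⟨k, rfl⟩
    by_contra h4
    have h17 := long_orbit (x := k • F1) (sig_perm (hK k.2) sig_F1) h4
    have h1 : orbit E25 (k • F1) ⊆ {k • F1} := by
      rintro _ ⟨e, rfl⟩
      exact cjS_fix (F := E25) (g := k.1) (x := F1) (fun p hp => (E25_le_St hp).2) e.1
        ((hall k.1 k.2).symm ▸ e.2)
    have := h17.trans (Set.ncard_le_ncard h1)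
    rw [Set.ncard_singleton] at this
    omega
  have h4 := (Set.ncard_le_ncard hsub).trans ncard_fix4
  have hmul := orbit_mul K F1
  have hle : Nat.card (K ⊓ stabilizer (Perm (Fin 4060)) F1 : Subgroup _) ≤ 600 :=
    (Subgroup.card_le_of_le (show K ⊓ stabilizer _ F1 ≤ St ⊓ NE from fun p hp =>
      ⟨⟨hK hp.1, hp.2⟩, ⟨hK hp.1, hall p hp.1⟩⟩)).trans sylow_St.1
  rw [hc] at hmul
  nlinarith [Nat.mul_le_mul h4 hle]

theorem gam_list {K : Subgroup (Perm (Fin 4060))} (hE : E25 ≤ K) {r i : ℕ} {g : Perm (Fin 4060)}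
    (hg : g ∈ K) (hr : Rep g (gam r i)) :
    ∀ f ∈ [tb tabP, tb tabQ, gam r i], ∃ p ∈ K, Rep p f := by
  intro f hf
  simp only [List.mem_cons, List.not_mem_nil, or_false] at hf
  rcases hf with rfl | rfl | rfl
  exacts [⟨_, hE pP_mem, rP⟩, ⟨_, hE pQ_mem, rQ⟩, ⟨_, hg, hr⟩]

/-- A listed pair with a long orbit does not occur. -/
theorem kill_case {K : Subgroup (Perm (Fin 4060))} (hK : K ≤ M0) (hc : Nat.card K = 15600)
    (hE : E25 ≤ K) {k : ℕ × ℕ × ℕ} (hk : k ∈ killL) {g : Perm (Fin 4060)} (hg : g ∈ K)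
    (hr : Rep g (gam k.1 k.2.1)) : False := by
  have h := kill_all hk
  simp only [killAt, Bool.and_eq_true, Nat.ble_eq, Nat.blt_eq] at h
  obtain ⟨⟨hlt, hD⟩, hgrow⟩ := h
  have h1 := hgrow.trans (grow_orbit (gam_list hE hg hr) 1561 ⟨k.2.2, hlt⟩).2
  have h2 : (orbit K (⟨k.2.2, hlt⟩ : Fin 4060)).ncard ≤ 1755 := by
    refine (Set.ncard_le_ncard ?_).trans (le_of_eq (adj_ncard (0 : Fin 4060)))
    rintro _ ⟨m, rfl⟩
    exact (M0_adj (hK m.2)).2 ((adj_zero _).2 hD)
  have hd : (orbit K (⟨k.2.2, hlt⟩ : Fin 4060)).ncard ∣ 15600 := hc ▸ Dvd.intro _ (orbit_mul K _)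
  obtain ⟨m, hm⟩ := hd
  have hm1 : m ≤ 9 := by
    by_contra h10
    have := Nat.mul_le_mul h1 (show 10 ≤ m by omega)
    omega
  have hm2 : 9 ≤ m := by nlinarith
  obtain rfl : m = 9 := by omega
  omega

/-- A listed pair with a fixed line gives a line fixed by the whole group. -/
theorem good_case {K : Subgroup (Perm (Fin 4060))} (hK : K ≤ M0) (hc : Nat.card K = 15600)
    (hE : E25 ≤ K) {k : ℕ × ℕ × ℕ × ℕ} (hk : k ∈ goodL) {g : Perm (Fin 4060)} (hg : g ∈ K)
    (hr : Rep g (gam k.1 k.2.1)) :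
    ∃ w : Fin 4060, sigM.testBit w.val = true ∧ ∀ p ∈ K, p w = w := by
  have h := List.all_eq_true.1 (show goodL.all goodAt = true from good_ok) k hk
  simp only [goodAt, Bool.and_eq_true, Nat.ble_eq, Nat.blt_eq, List.all_eq_true, Bool.or_eq_true,
    Nat.beq_eq] at h
  obtain ⟨⟨⟨⟨⟨⟨⟨hv, hs⟩, hP⟩, hQ⟩, hgv⟩, hy⟩, hgrow⟩, h4⟩ := h
  let v : Fin 4060 := ⟨k.2.2.1, hv⟩
  refine ⟨v, hs, fun p hp => ?_⟩
  let Kv : Subgroup (Perm (Fin 4060)) := K ⊓ stabilizer (Perm (Fin 4060)) v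
  have hgen : ∀ f ∈ [tb tabP, tb tabQ, gam k.1 k.2.1], ∃ p ∈ Kv, Rep p f := by
    intro f hf
    simp only [List.mem_cons, List.not_mem_nil, or_false] at hf
    rcases hf with rfl | rfl | rfl
    exacts [⟨_, ⟨hE pP_mem, Fin.ext ((rP v).trans hP)⟩, rP⟩,
      ⟨_, ⟨hE pQ_mem, Fin.ext ((rQ v).trans hQ)⟩, rQ⟩, ⟨_, ⟨hg, Fin.ext ((hr v).trans hgv)⟩, hr⟩]
  have hKv : 975 ≤ Nat.card Kv :=
    (hgrow.trans (grow_orbit hgen 975 ⟨k.2.2.2, hy⟩).2).trans
      (Nat.le_of_dvd Nat.card_pos (Dvd.intro _ (orbit_mul Kv _)))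
  have hmul := orbit_mul K v
  rw [hc] at hmul
  have h16 : (orbit K v).ncard ≤ 16 := by nlinarith
  have hsub : orbit K v ⊆ {x : Fin 4060 | x.val ∈ fix4} := by
    rintro x hx
    by_contra hx4
    obtain ⟨m, rfl⟩ := hx
    have h17 := long_orbit (x := m • v) (sig_perm (hK m.2) hs) hx4
    have hoe : orbit E25 (m • v) ⊆ orbit K v := by
      rintro _ ⟨e, rfl⟩
      exact ⟨⟨e.1, hE e.2⟩ * m, rfl⟩
    have := h17.trans (Set.ncard_le_ncard hoe)
    omega
  have hx : (⟨p, hp⟩ : K) • v ∈ orbit K v := mem_orbit v _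
  by_contra hne
  rcases h4 _ (hsub hx) with e | h5
  · exact hne (Fin.ext e)
  · have h5' := h5.trans (grow_orbit (gam_list hE hg hr) 5 ((⟨p, hp⟩ : K) • v)).2
    rw [orbit_eq_iff.2 hx] at h5'
    have := h5'.trans ((Set.ncard_le_ncard hsub).trans ncard_fix4)
    omega

theorem fixes_far_E {K : Subgroup (Perm (Fin 4060))} (hK : K ≤ M0) (hc : Nat.card K = 15600)
    (hE : E25 ≤ K) : ∃ w : Fin 4060, sigM.testBit w.val = true ∧ ∀ p ∈ K, p w = w := by
  obtain ⟨k, hk, hne⟩ := not_norm hK hc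
  obtain ⟨r, hr, n, hn, hnv⟩ := cover_sig (sig_perm (hK hk) sig_F1)
  have hn' : cjS n⁻¹ E25 = E25 := (inv_mem hn).2
  have hE2 : E25 ≤ cjS n⁻¹ K := by
    conv_lhs => rw [← hn']
    exact cjS_mono hE
  have hK2 : cjS n⁻¹ K ≤ M0 := cjS_le (inv_mem hn.1) hK
  have hc2 : Nat.card (cjS n⁻¹ K) = 15600 := by rw [card_cjS, hc]
  let t := pe (reW r)
  let F := cjS t⁻¹ (cjS n⁻¹ (cjS k E25))
  have hFK : cjS k E25 ≤ K := cjS_le hk hE
  have hfix : ∀ p ∈ F, p F1 = F1 := by
    have h1 := cjS_fix (g := t⁻¹) (F := cjS n⁻¹ (cjS k E25)) (x := n⁻¹ (k F1))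
      (cjS_fix (cjS_fix fun p hp => (E25_le_St hp).2))
    rwa [show n⁻¹ (k F1) = t F1 from n.injective (by rw [Perm.inv_def, Equiv.apply_symm_apply, hnv]),
      Perm.inv_def, Equiv.symm_apply_apply] at h1
  have hFS : F ≤ St := fun p hp =>
    ⟨cjS_le (inv_mem (pe_mem _)) (cjS_le (inv_mem hn.1) (hFK.trans hK)) hp, hfix p hp⟩
  obtain ⟨i, hi, c, -, hrc, hz, hcF⟩ := sylow_St.2 F hFS (by simp only [F, card_cjS, card_E25])
  have hpF : c * pP * c⁻¹ ∈ F := by
    rw [← hcF, mem_cjS]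
    simpa [mul_assoc] using pP_mem
  have hgK : t * (c * pP * c⁻¹) * t⁻¹ ∈ cjS n⁻¹ K := by
    have h1 : t * (c * pP * c⁻¹) * t⁻¹ ∈ cjS n⁻¹ (cjS k E25) := by
      have := mem_cjS.1 hpF
      simpa using this
    exact cjS_mono hFK h1
  have hgr : Rep (t * (c * pP * c⁻¹) * t⁻¹) (gam r i) := fun x => by
    have hw : Rep t (tb (repT r)) := rep_of_wordTab (List.all_eq_true.1 wordR_ok r (List.mem_range.2 hr))
    rw [show gam r i x.val = tb (repT r) (tb (cjT i) (tb (repI r) x.val)) by rw [gam]]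
    exact (hw.mul hrc).mul (rep_inv_repT hr).1 x
  have h := pair_ok
  simp only [pairOK, List.all_eq_true, List.mem_range, Bool.or_eq_true, Bool.and_eq_true,
    List.any_eq_true, Nat.beq_eq] at h
  rcases h r hr i hi with (⟨hr0, hi0⟩ | ⟨q, hq, hqr, hqi⟩) | ⟨q, hq, hqr, hqi⟩
  · exfalso
    apply hne
    have ht : t = 1 := by
      show pe (reW r) = 1
      rw [hr0, reW_zero]
      rfl
    have hF : cjS t⁻¹ (cjS n⁻¹ (cjS k E25)) = E25 := by
      rw [hz hi0, cjS_one] at hcF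
      exact hcF.symm
    rw [ht, inv_one, cjS_one] at hF
    have := congrArg (cjS n) hF
    rw [← cjS_mul, mul_inv_cancel, cjS_one, hn.2] at this
    exact this
  · rw [← hqr, ← hqi] at hgr
    exact (kill_case hK2 hc2 hE2 hq hgK hgr).elim
  · rw [← hqr, ← hqi] at hgr
    obtain ⟨w, hw, hwf⟩ := good_case hK2 hc2 hE2 hq hgK hgr
    refine ⟨n w, sig_perm hn.1 hw, fun p hp => ?_⟩
    have hp' : n⁻¹ * p * n ∈ cjS n⁻¹ K := ⟨p, hp, by simp⟩
    have := congrArg n (hwf _ hp')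
    simpa using this

/-- A subgroup of order 15600 of the stabiliser of a line fixes a line outside its neighbourhood. -/
theorem fixes_far {K : Subgroup (Perm (Fin 4060))} (hK : K ≤ M0) (hc : Nat.card K = 15600) :
    ∃ w : Fin 4060, w ≠ 0 ∧ ¬ Ru.Adj 0 w ∧ ∀ p ∈ K, p w = w := by
  classical
  have : Fact (Nat.Prime 5) := ⟨by norm_num⟩
  let Q : Sylow 5 K := default
  let P : Subgroup (Perm (Fin 4060)) := (Q : Subgroup K).map K.subtype
  have hP : Nat.card P = 25 := by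
    rw [← Nat.card_congr (Subgroup.equivMapOfInjective _ _ K.subtype_injective).toEquiv,
      Q.card_eq_multiplicity, hc, show (15600 : ℕ) = 5 ^ 2 * 624 by norm_num,
      Nat.factorization_mul (by norm_num) (by norm_num), Finsupp.add_apply,
      Nat.Prime.factorization_pow (by norm_num : Nat.Prime 5),
      Nat.factorization_eq_zero_of_not_dvd (show ¬ 5 ∣ 624 by norm_num)]
    simp
  have hPK : P ≤ K := Subgroup.map_subtype_le _
  have hPM : P ≤ M0 := hPK.trans hK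
  have hfac : ∀ {F : Subgroup (Perm (Fin 4060))}, F ≤ M0 → Nat.card F = 25 →
      Nat.card (F.subgroupOf M0) = 5 ^ (Nat.card M0).factorization 5 := by
    intro F hF hFc
    rw [Nat.card_congr (Subgroup.subgroupOfEquivOfLe hF).toEquiv, hFc, card_M0,
      show (35942400 : ℕ) = 5 ^ 2 * 1437696 by norm_num,
      Nat.factorization_mul (by norm_num) (by norm_num), Finsupp.add_apply,
      Nat.Prime.factorization_pow (by norm_num : Nat.Prime 5),
      Nat.factorization_eq_zero_of_not_dvd (show ¬ 5 ∣ 1437696 by norm_num)]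
    simp
  obtain ⟨g, hg⟩ := MulAction.exists_smul_eq M0
    (Sylow.ofCard (P.subgroupOf M0) (hfac hPM hP))
    (Sylow.ofCard (E25.subgroupOf M0) (hfac E25_le_M0 card_E25))
  have hgE : E25 ≤ cjS g.1 K := by
    intro x hx
    have h1 : (⟨x, E25_le_M0 hx⟩ : M0) ∈ (MulAut.conj g • P.subgroupOf M0 : Subgroup M0) := by
      have h2 : (⟨x, E25_le_M0 hx⟩ : M0) ∈
          ((g • Sylow.ofCard (P.subgroupOf M0) (hfac hPM hP) : Sylow 5 M0) : Subgroup M0) := by
        rw [hg]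
        exact Subgroup.mem_subgroupOf.2 hx
      exact h2
    rw [Subgroup.mem_pointwise_smul_iff_inv_smul_mem, Subgroup.mem_subgroupOf, MulAut.smul_def,
      ← map_inv, MulAut.conj_apply, inv_inv] at h1
    exact mem_cjS.2 (hPK h1)
  obtain ⟨w, hw, hf⟩ := fixes_far_E (cjS_le g.2 hK) (by rw [card_cjS, hc]) hgE
  obtain ⟨h0, hadj⟩ := (sig_iff _).1 (sig_perm (inv_mem g.2) hw)
  refine ⟨g.1⁻¹ w, h0, hadj, fun p hp => ?_⟩
  have hp' : g.1 * p * g.1⁻¹ ∈ cjS g.1 K := ⟨p, hp, rfl⟩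
  have := congrArg (g.1⁻¹ : Perm (Fin 4060)) (hf _ hp')
  simpa using this

end CfsgLib.RuRank3
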