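import Cfsg.Agent.Lib.Recog.RuRank3.Basic
import Cfsg.Agent.Lib.Recog.RuRank3.StabData
import Cfsg.Agent.Lib.Recog.RuRank3.ConjData

/-!
The checks on the tables for the subgroups of order 15600 of the stabiliser of a line.
-/

set_option autoImplicit false
set_option maxRecDepth 100000
set_option Elab.async false

namespace CfsgLib.RuRank3

/-- Two tables agree on all lines. -/
def eqT (f g : ℕ → ℕ) : Bool := (List.range 4060).all fun x => Nat.beq (f x) (g x)

/-- The iterate of a table. -/
def itT (f : ℕ → ℕ) : ℕ → ℕ → ℕ
  | 0, x => x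
  | n + 1, x => f (itT f n x)

/-- A product of powers of the two elements of order five. -/
def pqT (a b x : ℕ) : ℕ := itT (tb tabP) a (itT (tb tabQ) b x)

/-- The two elements of order five. -/
def pqL : List (ℕ → ℕ) := [tb tabP, tb tabQ]

/-- The table of a representative. -/
def repT (r : ℕ) : ℕ := [repT0, repT1, repT2, repT3].getD r 0

/-- The table of its inverse. -/
def repI (r : ℕ) : ℕ := [repI0, repI1, repI2, repI3].getD r 0

/-- The line of a representative. -/
def reV (r : ℕ) : ℕ := (repsW.getD r (0, [])).1

/-- The word of a representative. -/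
def reW (r : ℕ) : List ℕ := (repsW.getD r (0, [])).2

/-- A conjugate of the first element. -/
def cjT (i : ℕ) : ℕ := conjT.getD i 0

/-- A conjugate moved to a representative. -/
def gam (r i x : ℕ) : ℕ := tb (repT r) (tb (cjT i) (tb (repI r) x))

/-- The lines outside the neighbourhood of the first line that the two elements fix. -/
def fix4 : List ℕ := [1, 2149, 3642, 3835]

/-- The lines outside the neighbourhood of the first line. -/
def sigM : ℕ := ((2 ^ 4060 - 1) ^^^ maskD) ^^^ 1

/-- The first two tables are those of their words. -/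
def wordPQ : Bool :=
  wordTab tabP tabPW && wordTab tabQ tabQW && wordTab tabG tabGW && wordTab tabK tabKW &&
    wordTab tabNu tabNuW

/-- The normalisers' tables are those of their words. -/
def wordN : Bool := wordTab tabN0 tabN0W && wordTab tabN1 tabN1W && wordTab tabN2 tabN2W

/-- The representatives' tables are those of their words. -/
def wordR : Bool := (List.range 4).all fun r => wordTab (repT r) (reW r)

theorem wordPQ_ok : wordPQ = true := by decide +kernel
theorem wordN_ok : wordN = true := by decide +kernel
theorem wordR_ok : wordR = true := by decide +kernel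

/-- The relations of the elements. -/
def relOK : Bool :=
  eqT (itT (tb tabP) 5) (fun x => x) && eqT (itT (tb tabQ) 5) (fun x => x) &&
    eqT (fun x => tb tabP (tb tabQ x)) (fun x => tb tabQ (tb tabP x)) &&
    Nat.ble 25 (grow pqL 25 2).2 && eqT (itT (tb tabNu) 3) (fun x => x) &&
    !eqT (tb tabNu) (fun x => x) && !eqT (tb tabP) (fun x => x) &&
    Nat.beq (tb tabP 1) 1 && Nat.beq (tb tabQ 1) 1 && Nat.beq (tb tabG 1) 1 && Nat.beq (tb tabK 1) 1 &&
    Nat.beq (tb tabNu 1) 1

theorem rel_ok : relOK = true := by decide +kernel

/-- A table normalises the group of order 25 with given exponents. -/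
def normAt (T : ℕ) (e : ℕ × ℕ × ℕ × ℕ) : Bool :=
  eqT (fun x => tb T (tb tabP x)) (fun x => pqT e.1 e.2.1 (tb T x)) &&
    eqT (fun x => tb T (tb tabQ x)) (fun x => pqT e.2.2.1 e.2.2.2 (tb T x))

/-- All the normalising tables. -/
def normOK : Bool :=
  normAt tabN0 (normE.getD 0 (0, 0, 0, 0)) && normAt tabN1 (normE.getD 1 (0, 0, 0, 0)) &&
    normAt tabN2 (normE.getD 2 (0, 0, 0, 0)) && normAt tabNu nuE

theorem norm_ok : normOK = true := by decide +kernel

/-- The orbits of the two elements outside four lines are long. -/
def longOK : Bool :=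
  (List.range 4060).all fun f => !sigM.testBit f || fix4.any (Nat.beq f) || Nat.ble 17 (grow pqL 17 f).2

theorem long_ok : longOK = true := by decide +kernel

/-- The stabiliser is transitive outside the neighbourhood. -/
def sigOK : Bool :=
  ((List.range 4060).all fun f => sigM.testBit f == (!Nat.beq f 0 && !maskD.testBit f)) &&
    Nat.beq (grow [lt 0, lt 1, lt 2, lt 3, lt 4] 4061 1).1 sigM &&
    Nat.ble 2304 (grow [lt 0, lt 1, lt 2, lt 3, lt 4] 4061 1).2

theorem sig_ok : sigOK = true := by decide +kernel

/-- The normaliser's generators reach all these lines from the representatives. -/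
def coverOK : Bool :=
  Nat.beq sigM ((grow [tb tabP, tb tabQ, tb tabN0, tb tabN1, tb tabN2] 4061 (reV 0)).1 |||
    (grow [tb tabP, tb tabQ, tb tabN0, tb tabN1, tb tabN2] 4061 (reV 1)).1 |||
    (grow [tb tabP, tb tabQ, tb tabN0, tb tabN1, tb tabN2] 4061 (reV 2)).1 |||
    (grow [tb tabP, tb tabQ, tb tabN0, tb tabN1, tb tabN2] 4061 (reV 3)).1)

theorem cover_ok : coverOK = true := by decide +kernel

/-- The representatives move the line 1 to their lines and have the stated inverses. -/
def repOK : Bool :=
  ((List.range 4).all fun r => Nat.beq (tb (repT r) 1) (reV r) &&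
    eqT (fun x => tb (repI r) (tb (repT r) x)) (fun x => x)) && (reW 0 == [])

theorem rep_ok : repOK = true := by decide +kernel

/-- The tree of conjugates. -/
def treeOK : Bool :=
  eqT (tb (cjT 0)) (tb tabP) &&
    (List.range 26).all fun i => Nat.beq i 0 ||
      (Nat.blt (conjTree.getD i (0, 0)).1 i &&
        bif Nat.beq (conjTree.getD i (0, 0)).2 0 then
          eqT (fun x => tb (cjT i) (tb tabG x)) (fun x => tb tabG (tb (cjT (conjTree.getD i (0, 0)).1) x))
        else
          eqT (fun x => tb (cjT i) (tb tabK x)) (fun x => tb tabK (tb (cjT (conjTree.getD i (0, 0)).1) x)))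

theorem tree_ok : treeOK = true := by decide +kernel

/-- No two conjugates commute. -/
def commOK : Bool :=
  (List.range 26).all fun i => (List.range i).all fun j =>
    (List.range 3).any fun x => !Nat.beq (tb (cjT i) (tb (cjT j) x)) (tb (cjT j) (tb (cjT i) x))

theorem comm_ok : commOK = true := by decide +kernel

/-- Every pair is listed. -/
def pairOK : Bool :=
  (List.range 4).all fun r => (List.range 26).all fun i => (Nat.beq r 0 && Nat.beq i 0) ||
    (killL.any fun k => Nat.beq k.1 r && Nat.beq k.2.1 i) ||
    (goodL.any fun k => Nat.beq k.1 r && Nat.beq k.2.1 i)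

theorem pair_ok : pairOK = true := by decide +kernel

/-- A pair with a long orbit among the neighbours. -/
def killAt (k : ℕ × ℕ × ℕ) : Bool :=
  Nat.blt k.2.2 4060 && maskD.testBit k.2.2 &&
    Nat.ble 1561 (grow [tb tabP, tb tabQ, gam k.1 k.2.1] 1561 k.2.2).2

/-- A pair with a fixed line. -/
def goodAt (k : ℕ × ℕ × ℕ × ℕ) : Bool :=
  Nat.blt k.2.2.1 4060 && sigM.testBit k.2.2.1 && Nat.beq (tb tabP k.2.2.1) k.2.2.1 &&
    Nat.beq (tb tabQ k.2.2.1) k.2.2.1 && Nat.beq (gam k.1 k.2.1 k.2.2.1) k.2.2.1 &&
    Nat.blt k.2.2.2 4060 && Nat.ble 975 (grow [tb tabP, tb tabQ, gam k.1 k.2.1] 975 k.2.2.2).2 &&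
    fix4.all fun w => Nat.beq w k.2.2.1 || Nat.ble 5 (grow [tb tabP, tb tabQ, gam k.1 k.2.1] 5 w).2

/-- The pairs with a long orbit, by four parts. -/
def killPart (j : ℕ) : Bool := ((killL.drop (20 * j)).take 20).all killAt

theorem kill_zero : killPart 0 = true := by decide +kernel
theorem kill_one : killPart 1 = true := by decide +kernel
theorem kill_two : killPart 2 = true := by decide +kernel
theorem kill_three : killPart 3 = true := by decide +kernel

theorem kill_len : killL.length ≤ 80 := by decide +kernel

/-- The pairs with a fixed line. -/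
def goodOK : Bool := goodL.all goodAt

theorem good_ok : goodOK = true := by decide +kernel

end CfsgLib.RuRank3
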